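import Groth.Agent.Lib.RelVan7.Core
import Groth.Agent.Lib.NegVan7.Main

/-!
# Fibre depth and closed immersions, twists
-/

set_option autoImplicit false
set_option linter.style.haveILetI false

universe u

open CategoryTheory CategoryTheory.Limits AlgebraicGeometry IsLocalRing
open scoped TensorProduct

noncomputable section

namespace GrothLib.RelVan7

/-- The quotients by an extended ideal along a surjection of the acting rings. -/
theorem depth_quot_of_surjective {A B : Type u} [CommRing A] [CommRing B] [Algebra A B] [IsLocalRing A]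
    [IsLocalRing B] [IsNoetherianRing A] [IsNoetherianRing B] (hs : Function.Surjective (algebraMap A B))
    {N M : Type u} [AddCommGroup N] [Module A N] [AddCommGroup M] [Module A M] [Module B M] [IsScalarTower A B M]
    [Module.Finite A N] [Module.Finite A M] [Module.Finite B M] (e : N ≃ₗ[A] M) (J : Ideal A) :
    LocCoh.depth A (N ⧸ (J • ⊤ : Submodule A N)) =
      LocCoh.depth B (M ⧸ (J.map (algebraMap A B) • ⊤ : Submodule B M)) := by
  have h : (J • ⊤ : Submodule A N).map e.toLinearMap = (J.map (algebraMap A B) • ⊤ : Submodule B M).restrictScalars A := by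
    rw [Ideal.smul_restrictScalars, Submodule.restrictScalars_top, Submodule.map_smul'', Submodule.map_top,
      LinearEquiv.range]
  let e' : (N ⧸ (J • ⊤ : Submodule A N)) ≃ₗ[A] M ⧸ (J.map (algebraMap A B) • ⊤ : Submodule B M) :=
    (Submodule.Quotient.equiv _ _ e h).trans (Submodule.Quotient.restrictScalarsEquiv A _)
  haveI : Module.Finite A (M ⧸ (J.map (algebraMap A B) • ⊤ : Submodule B M)) := Module.Finite.equiv e'
  exact (Depth17.idealDepth_congr _ e').trans (Faltings.depth_eq_of_surjective hs _)

variable {X P S : Scheme.{u}}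

theorem depth_fibMod_push (ι : X ⟶ P) [IsClosedImmersion ι] [IsLocallyNoetherian X] [IsLocallyNoetherian P]
    (p : P ⟶ S) {G : X.Modules} (hG : Coh.IsCoh G) (x : X) :
    LocCoh.depth (P.presheaf.stalk (ι x)) (FibMod p ((Scheme.Modules.pushforward ι).obj G) (ι x)) =
      LocCoh.depth (X.presheaf.stalk x) (FibMod (ι ≫ p) G x) := by
  let A := P.presheaf.stalk (ι x)
  let B := X.presheaf.stalk x
  let φ : A →+* B := (ι.stalkMap x).hom
  letI : Algebra A B := φ.toAlgebra
  letI : Module A (G.presheaf.stalk x) := Module.compHom _ φ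
  haveI : IsScalarTower A B (G.presheaf.stalk x) := IsScalarTower.of_algebraMap_smul fun _ _ => rfl
  let e : ((Scheme.Modules.pushforward ι).obj G).presheaf.stalk (ι x) ≃ₗ[A] G.presheaf.stalk x :=
    ((OX.pushStalkIso ι x).app G).toLinearEquiv
  haveI := Euler.stalk_finite hG x
  haveI := Euler.stalk_finite (FormalExist7.isCoh_pushforward ι hG) (ι x)
  haveI : Module.Finite A (G.presheaf.stalk x) := Module.Finite.equiv e
  refine (depth_quot_of_surjective (B := B) (ι.stalkMap_surjective x) e
    ((maximalIdeal (S.presheaf.stalk (p (ι x)))).map (p.stalkMap (ι x)).hom)).trans ?_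
  rw [show algebraMap A B = (ι.stalkMap x).hom from rfl, Ideal.map_map, ← CommRingCat.hom_comp,
    ← Scheme.Hom.stalkMap_comp]
  rfl

theorem isFlatOver_push (ι : X ⟶ P) [IsClosedImmersion ι] (p : P ⟶ S) {G : X.Modules}
    (hflat : FlatMod.IsFlatOver (ι ≫ p) G) : FlatMod.IsFlatOver p ((Scheme.Modules.pushforward ι).obj G) := by
  intro y
  by_cases hy : y ∈ Set.range ι
  · obtain ⟨x, rfl⟩ := hy
    letI : Module (S.presheaf.stalk (p (ι x))) (G.presheaf.stalk x) := FlatMod.moduleStalkOver (ι ≫ p) G x
    letI := FlatMod.moduleStalkOver p ((Scheme.Modules.pushforward ι).obj G) (ι x)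
    letI : Module (P.presheaf.stalk (ι x)) (G.presheaf.stalk x) := Module.compHom _ (ι.stalkMap x).hom
    let e : ((Scheme.Modules.pushforward ι).obj G).presheaf.stalk (ι x) ≃ₗ[P.presheaf.stalk (ι x)]
        G.presheaf.stalk x := ((OX.pushStalkIso ι x).app G).toLinearEquiv
    haveI : Module.Flat (S.presheaf.stalk (p (ι x))) (G.presheaf.stalk x) := hflat x
    let e' : ((Scheme.Modules.pushforward ι).obj G).presheaf.stalk (ι x) ≃ₗ[S.presheaf.stalk (p (ι x))]
        G.presheaf.stalk x :=
      { e.toAddEquiv with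
        map_smul' := fun s m => by
          refine (e.map_smul ((p.stalkMap (ι x)).hom s) m).trans ?_
          change (ι.stalkMap x).hom ((p.stalkMap (ι x)).hom s) • e m = ((ι ≫ p).stalkMap x).hom s • e m
          rw [Scheme.Hom.stalkMap_comp]
          rfl }
    exact Module.Flat.of_linearEquiv e'
  · haveI : Subsingleton (((Scheme.Modules.pushforward ι).obj G).presheaf.stalk y) :=
      not_not.1 fun h => hy (QCoh.support_pushforward_subset_range ι _ h)
    letI := FlatMod.moduleStalkOver p ((Scheme.Modules.pushforward ι).obj G) y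
    show Module.Flat _ _
    infer_instance

theorem exists_stalk_tensor_equiv (G : X.Modules) {M : X.Modules} (hM : PicF.IsInvertible M) (x : X) :
    Nonempty ((CohB1.tensorMod G M).presheaf.stalk x ≃ₗ[X.presheaf.stalk x] G.presheaf.stalk x) := by
  obtain ⟨b⟩ := OmegaFree.exists_basis_stalk ((Seesaw26.isInvertible_iff_rank_one M).2 hM) x
  exact ⟨Ref1.tensorStalk G M x ≪≫ₗ
    TensorProduct.congr (LinearEquiv.refl _ _) (b.equivFun ≪≫ₗ LinearEquiv.funUnique (Fin 1) _ _) ≪≫ₗ
    TensorProduct.rid _ _⟩

theorem depth_fibMod_tensor (f : X ⟶ S) (G : X.Modules) {M : X.Modules} (hM : PicF.IsInvertible M) (x : X) :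
    LocCoh.depth (X.presheaf.stalk x) (FibMod f (CohB1.tensorMod G M) x) =
      LocCoh.depth (X.presheaf.stalk x) (FibMod f G x) := by
  obtain ⟨e⟩ := exists_stalk_tensor_equiv G hM x
  refine Depth17.idealDepth_congr _ (Submodule.Quotient.equiv _ _ e ?_)
  rw [Submodule.map_smul'', Submodule.map_top, LinearEquiv.range]

theorem isFlatOver_tensor (f : X ⟶ S) {G : X.Modules} (hflat : FlatMod.IsFlatOver f G) {M : X.Modules}
    (hM : PicF.IsInvertible M) : FlatMod.IsFlatOver f (CohB1.tensorMod G M) := by
  intro x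
  obtain ⟨e⟩ := exists_stalk_tensor_equiv G hM x
  letI := FlatMod.moduleStalkOver f G x
  letI := FlatMod.moduleStalkOver f (CohB1.tensorMod G M) x
  haveI : Module.Flat (S.presheaf.stalk (f x)) (G.presheaf.stalk x) := hflat x
  let e' : (CohB1.tensorMod G M).presheaf.stalk x ≃ₗ[S.presheaf.stalk (f x)] G.presheaf.stalk x :=
    { e.toAddEquiv with map_smul' := fun s m => e.map_smul ((f.stalkMap x).hom s) m }
  exact Module.Flat.of_linearEquiv e'

end GrothLib.RelVan7
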