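import Groth.Agent.Lib.LefAmp7.Hom
import Groth.Agent.Lib.CurveMult.SlopeSplit
import Groth.Agent.Lib.RelExtTwist20.Basic
import Groth.Agent.Lib.HomCorep20.Basic
import Groth.Agent.Lib.CMReg.Free
import Groth.Agent.Lib.LocFreeHom.IsoNear
import Groth.Agent.Lib.OX.SingleDegree
import Groth.Agent.Lib.NegVan7.Main
import Groth.Agent.Lib.SerrePn27.Twist

/-!
# Negative twists of bundles when the negative twists of the structure module have no low cohomology
-/

set_option autoImplicit false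
set_option linter.style.haveILetI false

universe u

open CategoryTheory CategoryTheory.Limits AlgebraicGeometry CategoryTheory.Abelian

noncomputable section

namespace GrothLib.RelVan7

attribute [local instance] LocFreeHom.hasSheafHom

variable {X : Scheme.{u}} [IsLocallyNoetherian X] [CompactSpace X] [QuasiSeparatedSpace X]

omit [IsLocallyNoetherian X] [CompactSpace X] [QuasiSeparatedSpace X] in
theorem exists_epi_map (G : X.Modules ⥤ X.Modules) [G.PreservesEpimorphisms] {F E' E : X.Modules}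
    (p : F ⟶ E') [Epi p] (a : G.obj E' ≅ E) : ∃ q : G.obj F ⟶ E, Epi q :=
  ⟨G.map p ≫ a.hom, inferInstance⟩

/-- A coherent module is a quotient of a sum of negative twists. -/
theorem exists_epi_twists {L M : X.Modules} (hL : CohB1.IsAmple L) (hM : ClSub.IsInverseOf L M)
    (hMi : PicF.IsInvertible M) {E : X.Modules} (hE : Coh.IsCoh E) :
    ∃ (b a : ℕ) (q : CohB1.tensorMod (FlatMod.freeMod X b) (CohB1.tensorPow M a) ⟶ E), Epi q := by
  obtain ⟨c, ⟨e⟩⟩ := Ample.exists_cocycle hL.1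
  haveI := hE.1
  obtain ⟨n, hn⟩ := c.eventually_isGloballyGenerated E ((c.isAmple_iff e).1 hL).2
    (fun _ => ⟨⊤, trivial, fun W hW _ => FormalExist7.moduleFinite_sections_of_isCoh hE hW⟩)
  obtain ⟨d⟩ := c.nonempty_tensorPow_iso e n
  obtain ⟨t⟩ := c.nonempty_tensor_modTwist E n
  have hgg := Ample.isGloballyGenerated_of_iso (((DCoh.tensorBi (X := X)).obj E).mapIso d ≪≫ t).symm (hn n le_rfl)
  have hLn := Ample.isInvertible_tensorPow hL.1 n
  have hMn := Ample.isInvertible_tensorPow hMi n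
  obtain ⟨u⟩ : Nonempty (CohB1.tensorMod (CohB1.tensorPow L n) (CohB1.tensorPow M n) ≅ Coh.structureModule X) :=
    (Cube.clsMod_eq_one_iff (Ample.isInvertible_tensorMod hLn hMn)).1 (by
      rw [Cube.clsMod_tensorMod hLn hMn, Cube.clsMod_tensorPow hL.1, Cube.clsMod_tensorPow hMi, ← mul_pow,
        ← Cube.clsMod_tensorMod hL.1 hMi, (Cube.clsMod_eq_one_iff _).2 hM, one_pow])
  obtain ⟨N, p, hp⟩ := CurveMult.exists_epi_freeMod
    (QCoh.isCoh_of_iso (((DCoh.tensorBi (X := X)).obj E).mapIso d ≪≫ t).symm (Euler.isCoh_modTwist c hE n)) hgg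
  let T := DCoh.tensorBi (X := X)
  let G := T.flip.obj (CohB1.tensorPow M n)
  haveI := hp
  haveI : PreservesColimitsOfSize.{0, 0} G := inferInstance
  haveI : G.PreservesEpimorphisms := inferInstance
  let a : G.obj (CohB1.tensorMod E (CohB1.tensorPow L n)) ≅ E :=
    OX.tensorAssoc E (CohB1.tensorPow L n) (CohB1.tensorPow M n) ≪≫ (T.obj E).mapIso u ≪≫
      LocFreeDual20.unitR E
  obtain ⟨q, hq⟩ := exists_epi_map G p a
  exact ⟨N, n, q, hq⟩

omit [IsLocallyNoetherian X] [CompactSpace X] [QuasiSeparatedSpace X] in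
theorem isFinLocFree_twists {M : X.Modules} (hMi : PicF.IsInvertible M) (b a : ℕ) :
    FlatMod.IsFinLocFree (CohB1.tensorMod (FlatMod.freeMod X b) (CohB1.tensorPow M a)) :=
  OX.isFinLocFree_tensor (OX.isFinLocFree_freeMod X b)
    (FinCov.isFinLocFree_of_rank (Euler.isFinLocFreeOfRank_one' (Ample.isInvertible_tensorPow hMi a)))

variable [HasExt.{u} X.Modules]

omit [IsLocallyNoetherian X] [CompactSpace X] [QuasiSeparatedSpace X] in
theorem subsingleton_ext_sigma {b : ℕ} (N : Fin b → X.Modules) (B : X.Modules) (q : ℕ)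
    (h : ∀ l, Subsingleton (Ext (N l) B q)) : Subsingleton (Ext (∐ N) B q) := by
  haveI : HasFiniteBiproducts X.Modules := HasFiniteBiproducts.of_hasFiniteCoproducts
  let π : ∀ l, ∐ N ⟶ N l := fun l => (biproduct.isoCoproduct N).inv ≫ biproduct.π N l
  have htot : ∑ l, π l ≫ Sigma.ι N l = 𝟙 (∐ N) := by
    have hι : ∀ l, Sigma.ι N l = biproduct.ι N l ≫ (biproduct.isoCoproduct N).hom := fun l => by simp
    simp only [π, hι, Category.assoc, ← Preadditive.comp_sum]
    simp only [← Category.assoc (biproduct.π N _), ← Preadditive.sum_comp]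
    rw [biproduct.total, Category.id_comp, Iso.inv_hom_id]
  refine subsingleton_of_forall_eq 0 fun x => ?_
  have hx : x = (Ext.mk₀ (∑ l, π l ≫ Sigma.ι N l)).comp x (zero_add q) := by rw [htot, Ext.mk₀_id_comp]
  rw [hx, Ext.mk₀_sum, Ext.sum_comp]
  refine Finset.sum_eq_zero fun l _ => ?_
  haveI := h l
  rw [← Ext.mk₀_comp_mk₀, Ext.comp_assoc_of_second_deg_zero,
    Subsingleton.elim ((Ext.mk₀ (Sigma.ι N l)).comp x (zero_add q)) 0, Ext.comp_zero]

variable {r : ℕ} {L M : X.Modules} (hMi : PicF.IsInvertible M)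
  (hline : ∀ j : ℕ, 0 < j → ∀ i : ℕ, i < r → Subsingleton (Coh.HH X (CohB1.tensorPow M j) i))

omit [IsLocallyNoetherian X] [CompactSpace X] [QuasiSeparatedSpace X] in
include hMi hline in
theorem subsingleton_ext_line {a q i : ℕ} (hq : a < q) (hi : i < r) :
    Subsingleton (Ext (CohB1.tensorPow M a) (CohB1.tensorPow M q) i) := by
  let E := CohB1.tensorPow M a
  let Z := CohB1.tensorPow M (q - a)
  have hEi := Ample.isInvertible_tensorPow hMi a
  have hE : FlatMod.IsFinLocFree E := FinCov.isFinLocFree_of_rank (Euler.isFinLocFreeOfRank_one' hEi)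
  obtain ⟨p⟩ : Nonempty (CohB1.tensorPow M q ≅ CohB1.tensorMod Z E) := by
    refine (Cube.clsMod_eq_iff (Ample.isInvertible_tensorPow hMi q)
      (Ample.isInvertible_tensorMod (Ample.isInvertible_tensorPow hMi (q - a)) hEi)).1 ?_
    rw [Cube.clsMod_tensorMod (Ample.isInvertible_tensorPow hMi (q - a)) hEi, Cube.clsMod_tensorPow hMi,
      Cube.clsMod_tensorPow hMi, Cube.clsMod_tensorPow hMi, ← pow_add, Nat.sub_add_cancel hq.le]
  obtain ⟨w⟩ := LocFreeHom.nonempty_iHom_self_iso hE fun x => (hEi x).imp fun U hU =>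
    ⟨hU.1, hU.2.map fun e => ((Scheme.Modules.restrictFunctorIsoPullback U.ι).app E).symm ≪≫ e⟩
  haveI := LocFreeDual20.isIso_θ hE E
  let T := DCoh.tensorBi (X := X)
  let j : (DCoh.sheafHom E).obj (CohB1.tensorPow M q) ≅ Z :=
    ((LocFreeDual20.dualIso hE).app (CohB1.tensorPow M q)).symm ≪≫
      (T.flip.obj (LocFreeDual20.dual E)).mapIso p ≪≫ OX.tensorAssoc Z E (LocFreeDual20.dual E) ≪≫
      (T.obj Z).mapIso (asIso (LocFreeDual20.θ E E) ≪≫ w.symm) ≪≫ LocFreeDual20.unitR Z
  obtain ⟨f⟩ := LocFreeDual20.nonempty_ext_addEquiv_HH hE (CohB1.tensorPow M q) i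
  haveI := CMReg.subsingleton_of_iso j.symm (hline (q - a) (Nat.sub_pos_of_lt hq) i hi)
  exact f.toEquiv.subsingleton

omit [IsLocallyNoetherian X] [CompactSpace X] [QuasiSeparatedSpace X] in
include hMi hline in
theorem subsingleton_ext_twists {b a q i : ℕ} (hq : a < q) (hi : i < r) :
    Subsingleton (Ext (CohB1.tensorMod (FlatMod.freeMod X b) (CohB1.tensorPow M a)) (CohB1.tensorPow M q) i) := by
  let e : CohB1.tensorMod (FlatMod.freeMod X b) (CohB1.tensorPow M a) ≅ ∐ fun _ : Fin b => CohB1.tensorPow M a :=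
    CMReg.tensorSigmaIso (fun _ : Fin b => Coh.structureModule X) _ ≪≫
      Sigma.mapIso fun _ => OX.tensorUnitLeftIso _
  obtain ⟨f⟩ := LocFreeDual20.nonempty_ext_congr_addEquiv e (CohB1.tensorPow M q) i
  haveI := subsingleton_ext_sigma (fun _ : Fin b => CohB1.tensorPow M a) (CohB1.tensorPow M q) i
    fun _ => subsingleton_ext_line hMi hline hq hi
  exact f.symm.toEquiv.subsingleton

variable (hamp : CohB1.IsAmple L) (hinv : ClSub.IsInverseOf L M)

include hMi hline hamp hinv in
/-- `Ext^i` of a bundle into negative twists eventually vanishes for `i < r`. -/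
theorem eventually_ext_bundle : ∀ i : ℕ, i < r → ∀ D : X.Modules, FlatMod.IsFinLocFree D →
    ∃ q₀ : ℕ, ∀ q, q₀ ≤ q → Subsingleton (Ext D (CohB1.tensorPow M q) i) := by
  intro i
  induction i with
  | zero =>
    intro hi D hD
    obtain ⟨b, a, p, hp⟩ := exists_epi_twists hamp hinv hMi (Euler.isCoh_of_isFinLocFree hD)
    refine ⟨a + 1, fun q hq => ⟨fun x y => ?_⟩⟩
    obtain ⟨φ, rfl⟩ := (Ext.mk₀_bijective D (CohB1.tensorPow M q)).2 x
    obtain ⟨ψ, rfl⟩ := (Ext.mk₀_bijective D (CohB1.tensorPow M q)).2 y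
    congr 1
    rw [← cancel_epi p]
    exact (LefAmp7.subsingleton_hom (subsingleton_ext_twists hMi hline (by omega) hi)).elim _ _
  | succ i ih =>
    intro hi D hD
    obtain ⟨b, a, p, hp⟩ := exists_epi_twists hamp hinv hMi (Euler.isCoh_of_isFinLocFree hD)
    have hK : FlatMod.IsFinLocFree (kernel p) :=
      OX.isFinLocFree_kernel p (isFinLocFree_twists hMi b a) hD
    obtain ⟨q₁, hq₁⟩ := ih (by omega) (kernel p) hK
    refine ⟨max (a + 1) q₁, fun q hq => ?_⟩
    have hS : (ShortComplex.mk (kernel.ι p) p (kernel.condition p)).ShortExact :=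
      { exact := ShortComplex.exact_of_f_is_kernel _ (kernelIsKernel p) }
    refine subsingleton_of_forall_eq 0 fun x => ?_
    obtain ⟨y, hy⟩ := Ext.contravariant_sequence_exact₃ hS (CohB1.tensorPow M q) x
      (@Subsingleton.elim _ (subsingleton_ext_twists hMi hline (show a < q by omega) hi) _ _) (Nat.add_comm 1 i)
    rw [← hy, @Subsingleton.elim _ (hq₁ q (by omega)) y 0, Ext.comp_zero]

include hMi hline hamp hinv in
/-- The negative twists of a bundle have no cohomology below `r`, eventually. -/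
theorem eventually_HH_bundle {E : X.Modules} (hE : FlatMod.IsFinLocFree E) {i : ℕ} (hi : i < r) :
    ∃ q₀ : ℕ, ∀ q, q₀ ≤ q → Subsingleton (Coh.HH X (CohB1.tensorMod E (CohB1.tensorPow M q)) i) := by
  let D := LocFreeDual20.dual E
  have hD : FlatMod.IsFinLocFree D := HomCorep20.isFinLocFree_dual hE
  obtain ⟨dd⟩ := RelExtTwist20.nonempty_dual_dual hE
  obtain ⟨q₀, hq₀⟩ := eventually_ext_bundle hMi hline hamp hinv i hi D hD
  refine ⟨q₀, fun q hq => ?_⟩
  obtain ⟨f⟩ := LocFreeDual20.nonempty_ext_addEquiv_HH hD (CohB1.tensorPow M q) i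
  haveI := hq₀ q hq
  haveI := f.symm.toEquiv.subsingleton
  let j : CohB1.tensorMod E (CohB1.tensorPow M q) ≅ (DCoh.sheafHom D).obj (CohB1.tensorPow M q) :=
    LocFreeDual20.br E (CohB1.tensorPow M q) ≪≫
      ((DCoh.tensorBi (X := X)).obj (CohB1.tensorPow M q)).mapIso dd.symm ≪≫
      (LocFreeDual20.dualIso hD).app (CohB1.tensorPow M q)
  exact CMReg.subsingleton_of_iso j.symm (by assumption)

end GrothLib.RelVan7
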