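import Groth.Agent.Lib.RelVan7.Core
import Groth.Agent.Lib.ProjCohom.Results
import Groth.Agent.Lib.SerrePn27.Twist
import Groth.Agent.Lib.SerrePn27.DepthExt
import Groth.Agent.Lib.ProjPic26.Relative
import Groth.Agent.Lib.DepthAlong.Smooth
import Groth.Agent.Lib.CurveMult.P1Split
import Groth.Agent.Lib.Ample.Criterion

/-!
# Projective space over a ring: fibres and negative twists
-/

set_option autoImplicit false
set_option linter.style.haveILetI false

universe u

open CategoryTheory CategoryTheory.Limits AlgebraicGeometry IsLocalRing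

noncomputable section

namespace GrothLib.RelVan7

variable (N : ℕ) (A : Type u) [CommRing A]

theorem isInvertible_twist (d : ℤ) : PicF.IsInvertible (Twist.twistProjSpace N A d) :=
  GrTilde.isInvertible_twist (𝒜 := CohB1.polyGrading N A) SerrePn27.exists_notMem' d

theorem isInverseOf_twist :
    ClSub.IsInverseOf (Twist.twistProjSpace N A 1) (Twist.twistProjSpace N A (-1)) := by
  obtain ⟨e⟩ := GrTilde.nonempty_twist_tensor_twist (𝒜 := CohB1.polyGrading N A) SerrePn27.exists_notMem' 1 (-1)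
  obtain ⟨z⟩ := GrTilde.nonempty_structureModule_iso_twist_zero (CohB1.polyGrading N A)
  exact ⟨e ≪≫ eqToIso (by norm_num) ≪≫ z.symm⟩

theorem isAmple_twist : CohB1.IsAmple (Twist.twistProjSpace N A 1) := by
  haveI := Chow.isProper_toSpec N A
  haveI : CompactSpace (CohB1.ProjSpace N A) :=
    QuasiCompact.compactSpace_of_compactSpace (CohB1.ProjSpace.toSpec N A)
  have h := RelProjK.isAmple_pullback_twist_of_isEmbedding (𝒜 := CohB1.polyGrading N A)
    (𝟙 (CohB1.ProjSpace N A)) (Scheme.Hom.isEmbedding (𝟙 (CohB1.ProjSpace N A))) SerrePn27.exists_notMem'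
  exact (Ample.isAmple_iff_of_iso ((Scheme.Modules.pullbackId (CohB1.ProjSpace N A)).app _)).1 h

theorem nonempty_tensorPow_twist (j : ℕ) :
    Nonempty (CohB1.tensorPow (Twist.twistProjSpace N A (-1)) j ≅ Twist.twistProjSpace N A (-(j : ℤ))) := by
  induction j with
  | zero => exact ⟨(GrTilde.nonempty_structureModule_iso_twist_zero (CohB1.polyGrading N A)).some ≪≫
      eqToIso (by simp; rfl)⟩
  | succ j ih =>
    obtain ⟨e⟩ := ih
    obtain ⟨t⟩ := GrTilde.nonempty_twist_tensor_twist (𝒜 := CohB1.polyGrading N A) SerrePn27.exists_notMem'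
      (-(j : ℤ)) (-1)
    exact ⟨Ample.LineData.tensorModMapIso e (Iso.refl _) ≪≫ t ≪≫ eqToIso (by push_cast; ring_nf; rfl)⟩

theorem line_vanish (j : ℕ) (hj : 0 < j) (i : ℕ) (hi : i < N) :
    Subsingleton (Coh.HH (CohB1.ProjSpace N A) (CohB1.tensorPow (Twist.twistProjSpace N A (-1)) j) i) := by
  obtain ⟨e⟩ := nonempty_tensorPow_twist N A j
  exact CMReg.subsingleton_of_iso e.symm (ProjCohom.subsingleton_HH (by omega) (by omega))

theorem fibre_regular (y : CohB1.ProjSpace N A) (hy : IsClosed ({y} : Set (CohB1.ProjSpace N A))) :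
    IsRegularLocalRing (CMMor6.FibQuot (CohB1.ProjSpace.toSpec N A) y) ∧
      ∃ D : ℕ, D ≤ N ∧ ringKrullDim (CMMor6.FibQuot (CohB1.ProjSpace.toSpec N A) y) = D := by
  let f := CohB1.ProjSpace.toSpec N A
  let S := Spec (CommRingCat.of A)
  obtain ⟨e⟩ := CMMor6.nonempty_fibQuot_equiv f y
  haveI : Smooth f := CurveMult.smooth_toSpec N A
  haveI := DepthAlong.isRegularLocalRing_fiberStalk f y
  refine ⟨IsRegularLocalRing.of_ringEquiv e.symm, N, le_rfl, ?_⟩
  rw [ringKrullDim_eq_of_ringEquiv e]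
  obtain ⟨ω, hω1, hω⟩ := ProjPic26.exists_isPullback_point (n := N) S (S.fromSpecResidueField (f y))
  obtain ⟨ω₀, hω₀1, hω₀⟩ := ProjPic26.exists_isPullback_point (n := N) S (𝟙 S)
  haveI : IsIso ω₀ := hω₀.isIso_fst_of_isIso
  have hsq : IsPullback ω₀ f (CohB1.ProjSpaceOver.toBase N S) (𝟙 S) := hω₀
  have hpb : IsPullback (ω ≫ inv ω₀) (CohB1.ProjSpace.toSpec N (S.residueField (f y))) f
      (S.fromSpecResidueField (f y)) :=
    IsPullback.of_right (h₁₂ := ω₀) (h₂₂ := 𝟙 S) (by rw [Category.assoc, IsIso.inv_hom_id, Category.comp_id, Category.comp_id]; exact hω)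
      (by
        rw [Category.assoc, ← cancel_mono (𝟙 S), Category.assoc, Category.assoc, ← hsq.w,
          IsIso.inv_hom_id_assoc, hω.w, Category.comp_id]; rfl) hsq
  let α : CohB1.ProjSpace N (S.residueField (f y)) ≅ f.fiber (f y) := hpb.isoPullback
  let z := α.inv (f.asFiber y)
  have hz : α.hom z = f.asFiber y := by
    rw [← Scheme.Hom.comp_apply, Iso.inv_hom_id]
    rfl
  have hcl : IsClosed ({f.asFiber y} : Set (f.fiber (f y))) := by
    have h := hy.preimage (f.fiberι (f y)).continuous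
    rwa [show (f.fiberι (f y)) ⁻¹' {y} = {f.asFiber y} from Set.ext fun w =>
      ⟨fun h => (f.fiberι (f y)).isEmbedding.injective (h.trans (f.fiberι_asFiber y).symm),
        fun h => by rw [Set.mem_preimage, Set.mem_singleton_iff, Set.mem_singleton_iff.1 h, f.fiberι_asFiber]⟩] at h
  have hzc : IsClosed ({z} : Set (CohB1.ProjSpace N (S.residueField (f y)))) := by
    have h := hcl.preimage α.hom.continuous
    rwa [show (α.hom : _ → _) ⁻¹' {f.asFiber y} = {z} from Set.ext fun w =>
      ⟨fun h => α.hom.isOpenEmbedding.injective (h.trans hz.symm), fun h => (congrArg _ h).trans hz⟩] at h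
  have e1 : ringKrullDim ((f.fiber (f y)).presheaf.stalk (f.asFiber y)) =
      ringKrullDim ((f.fiber (f y)).presheaf.stalk (α.hom z)) := by rw [hz]
  exact e1.trans ((ringKrullDim_eq_of_ringEquiv (asIso (α.hom.stalkMap z)).commRingCatIsoToRingEquiv).trans
    (SerrePn27.dim_stalk_closedPoint z hzc))

end GrothLib.RelVan7
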