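import Groth.Agent.Lib.RelVan7.Local
import Groth.Agent.Lib.RelVan7.Bundle
import Groth.Agent.Lib.LocFree8.Basic
import Groth.Agent.Lib.FibReg5.Basic
import Groth.Agent.Lib.QCoh.SupportExact
import Groth.Agent.Lib.Euler.Rank
import Groth.Agent.Lib.CMReg.Koszul
import Groth.Agent.Lib.Cohom.LinearLES
import Groth.Agent.Lib.Ref1.Frame
import Groth.Agent.Lib.CMMor6.Mor
import Groth.Agent.Lib.HilbArt9.Main

/-!
# Vanishing below the fibre depth on a family of regular fibres
-/

set_option autoImplicit false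
set_option linter.style.haveILetI false

universe u

open CategoryTheory CategoryTheory.Limits AlgebraicGeometry CategoryTheory.Abelian IsLocalRing

noncomputable section

namespace GrothLib.RelVan7

open GrothLib.QCoh (stalkLin)

variable {P S : Scheme.{u}} (f : P ⟶ S)

/-- The fibre of a module at a point. -/
abbrev FibMod (M : P.Modules) (y : P) : Type u :=
  M.presheaf.stalk y ⧸ ((maximalIdeal (S.presheaf.stalk (f y))).map (f.stalkMap y).hom •
    (⊤ : Submodule (P.presheaf.stalk y) (M.presheaf.stalk y)))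

/-- The fibre depth condition at a point. -/
def GoodAt (M : P.Modules) (y : P) (D e : ℕ) : Prop :=
  ((min D e : ℕ) : ℕ∞) ≤ LocCoh.depth (P.presheaf.stalk y) (FibMod f M y)

variable [Flat f] [IsLocallyNoetherian P]

omit [Flat f] [IsLocallyNoetherian P] in
theorem flatOver_of_stalk {M : P.Modules} {y : P} (h : FlatMod.IsFlatOverAt f M y) :
    letI := FlatMod.moduleStalkOver f M y
    Module.Flat (S.presheaf.stalk (f y)) (M.presheaf.stalk y) := h

theorem isFlatOverAt_of_free {G : P.Modules} (y : P) [Module.Free (P.presheaf.stalk y) (G.presheaf.stalk y)] :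
    FlatMod.IsFlatOverAt f G y := by
  letI := FlatMod.moduleStalkOver f G y
  letI : Algebra (S.presheaf.stalk (f y)) (P.presheaf.stalk y) := (f.stalkMap y).hom.toAlgebra
  haveI : IsScalarTower (S.presheaf.stalk (f y)) (P.presheaf.stalk y) (G.presheaf.stalk y) :=
    IsScalarTower.of_algebraMap_smul fun _ _ => rfl
  haveI : Module.Flat (S.presheaf.stalk (f y)) (P.presheaf.stalk y) := Flat.stalkMap f y
  exact Module.Flat.trans (S.presheaf.stalk (f y)) (P.presheaf.stalk y) (G.presheaf.stalk y)

omit [Flat f] in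
/-- A coherent module free at the closed points is a bundle. -/
theorem isFinLocFree_of_closed [CompactSpace P] {M : P.Modules} (hM : Coh.IsCoh M)
    (h : ∀ y : P, IsClosed ({y} : Set P) → Module.Free (P.presheaf.stalk y) (M.presheaf.stalk y)) :
    FlatMod.IsFinLocFree M := by
  haveI := hM.1
  have hfp := FibReg5.isFP_of_isCoh hM
  refine (LocFree8.isFinLocFree_iff_fp_free M).2 ⟨hfp, fun x => ?_⟩
  obtain ⟨y, hy, hcl⟩ := IsClosed.exists_closed_singleton (S := closure ({x} : Set P)) isClosed_closure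
    ⟨x, subset_closure rfl⟩
  obtain ⟨W, hxW, hW⟩ : ∃ W : P.Opens, y ∈ W ∧ ∀ z ∈ W, Module.Free (P.presheaf.stalk z) (M.presheaf.stalk z) := by
    obtain ⟨U, m, e, hyU, he⟩ := Ref1.exists_frame_of_free (HomSh.hasRel_of_isFP hfp) (h y hcl)
    exact ⟨U, hyU, fun z hz => Module.Free.of_equiv (LinearEquiv.ofBijective _ (Ref1.stalk_of_isFrame he z hz))⟩
  exact hW x ((specializes_iff_mem_closure.2 hy).mem_open W.2 hxW)

variable {r : ℕ} (hfib : ∀ y : P, IsClosed ({y} : Set P) →
  IsRegularLocalRing (CMMor6.FibQuot f y) ∧ ∃ D : ℕ, D ≤ r ∧ ringKrullDim (CMMor6.FibQuot f y) = D)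

omit [Flat f] in
include hfib in
theorem free_of_good [CompactSpace P] {M : P.Modules} (hM : Coh.IsCoh M) (hflat : FlatMod.IsFlatOver f M)
    {e : ℕ} (he : r ≤ e)
    (hgood : ∀ y : P, IsClosed ({y} : Set P) → ∀ D : ℕ, ringKrullDim (CMMor6.FibQuot f y) = D → GoodAt f M y D e) :
    FlatMod.IsFinLocFree M := by
  refine isFinLocFree_of_closed hM fun y hy => ?_
  obtain ⟨hreg, D, hDr, hD⟩ := hfib y hy
  letI := FlatMod.moduleStalkOver f M y
  letI : Algebra (S.presheaf.stalk (f y)) (P.presheaf.stalk y) := (f.stalkMap y).hom.toAlgebra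
  haveI : IsScalarTower (S.presheaf.stalk (f y)) (P.presheaf.stalk y) (M.presheaf.stalk y) :=
    IsScalarTower.of_algebraMap_smul fun _ _ => rfl
  haveI : Module.Flat (S.presheaf.stalk (f y)) (M.presheaf.stalk y) := hflat y
  haveI := Euler.stalk_finite hM y
  haveI : IsRegularLocalRing (P.presheaf.stalk y ⧸ fib (S.presheaf.stalk (f y)) (P.presheaf.stalk y)) := hreg
  have h := hgood y hy D hD
  unfold GoodAt at h
  rw [min_eq_left (hDr.trans he)] at h
  exact free_of_fibre (A := S.presheaf.stalk (f y)) (O := P.presheaf.stalk y) (M.presheaf.stalk y) hD h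

include hfib in
theorem kernel_good {M G : P.Modules} (p : G ⟶ M) [Epi p] (hM : Coh.IsCoh M) (hG : FlatMod.IsFinLocFree G)
    (hflat : FlatMod.IsFlatOver f M) {e : ℕ}
    (hgood : ∀ y : P, IsClosed ({y} : Set P) → ∀ D : ℕ, ringKrullDim (CMMor6.FibQuot f y) = D → GoodAt f M y D e) :
    FlatMod.IsFlatOver f (kernel p) ∧
      ∀ y : P, IsClosed ({y} : Set P) → ∀ D : ℕ, ringKrullDim (CMMor6.FibQuot f y) = D →
        GoodAt f (kernel p) y D (e + 1) := by
  have hGc := Euler.isCoh_of_isFinLocFree hG
  haveI := hGc.1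
  have hfree := ((LocFree8.isFinLocFree_iff_fp_free G).1 hG).2
  have hex : ∀ y : P, Function.Exact (stalkLin (kernel.ι p) y) (stalkLin p y) := fun y => by
    have hS : (ShortComplex.mk (kernel.ι p) p (kernel.condition p)).Exact :=
      ShortComplex.exact_of_f_is_kernel _ (kernelIsKernel p)
    exact ShortComplex.ShortExact.moduleCat_exact_iff_function_exact _ |>.1 ((OX.exact_iff _).1 hS y)
  constructor
  · intro y
    letI := FlatMod.moduleStalkOver f M y
    letI := FlatMod.moduleStalkOver f G y
    letI := FlatMod.moduleStalkOver f (kernel p) y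
    letI : Algebra (S.presheaf.stalk (f y)) (P.presheaf.stalk y) := (f.stalkMap y).hom.toAlgebra
    haveI : IsScalarTower (S.presheaf.stalk (f y)) (P.presheaf.stalk y) (M.presheaf.stalk y) :=
      IsScalarTower.of_algebraMap_smul fun _ _ => rfl
    haveI : IsScalarTower (S.presheaf.stalk (f y)) (P.presheaf.stalk y) (G.presheaf.stalk y) :=
      IsScalarTower.of_algebraMap_smul fun _ _ => rfl
    haveI : IsScalarTower (S.presheaf.stalk (f y)) (P.presheaf.stalk y) ((kernel p).presheaf.stalk y) :=
      IsScalarTower.of_algebraMap_smul fun _ _ => rfl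
    haveI : Module.Flat (S.presheaf.stalk (f y)) (M.presheaf.stalk y) := hflat y
    haveI := hfree y
    haveI : Module.Flat (S.presheaf.stalk (f y)) (G.presheaf.stalk y) := isFlatOverAt_of_free f y
    exact flat_kernel (A := S.presheaf.stalk (f y)) (stalkLin (kernel.ι p) y) (stalkLin p y)
      (QCoh.stalkLin_injective _ y) (QCoh.stalkLin_surjective p y) (hex y)
  · intro y hy D hD
    obtain ⟨hreg, -⟩ := hfib y hy
    letI := FlatMod.moduleStalkOver f M y
    letI := FlatMod.moduleStalkOver f G y
    letI := FlatMod.moduleStalkOver f (kernel p) y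
    letI : Algebra (S.presheaf.stalk (f y)) (P.presheaf.stalk y) := (f.stalkMap y).hom.toAlgebra
    haveI : IsScalarTower (S.presheaf.stalk (f y)) (P.presheaf.stalk y) (M.presheaf.stalk y) :=
      IsScalarTower.of_algebraMap_smul fun _ _ => rfl
    haveI : IsScalarTower (S.presheaf.stalk (f y)) (P.presheaf.stalk y) (G.presheaf.stalk y) :=
      IsScalarTower.of_algebraMap_smul fun _ _ => rfl
    haveI : IsScalarTower (S.presheaf.stalk (f y)) (P.presheaf.stalk y) ((kernel p).presheaf.stalk y) :=
      IsScalarTower.of_algebraMap_smul fun _ _ => rfl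
    haveI : Module.Flat (S.presheaf.stalk (f y)) (M.presheaf.stalk y) := hflat y
    haveI := hfree y
    haveI := Euler.stalk_finite hM y
    haveI := Euler.stalk_finite hGc y
    haveI := Euler.stalk_finite (QCoh.isCoh_kernel p hGc hM) y
    haveI : IsRegularLocalRing (P.presheaf.stalk y ⧸ fib (S.presheaf.stalk (f y)) (P.presheaf.stalk y)) := hreg
    exact good_kernel (A := S.presheaf.stalk (f y)) (O := P.presheaf.stalk y) (stalkLin (kernel.ι p) y)
      (stalkLin p y) (QCoh.stalkLin_injective _ y) (QCoh.stalkLin_surjective p y) (hex y) hD (hgood y hy D hD)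

variable [CompactSpace P] [QuasiSeparatedSpace P] [HasExt.{u} P.Modules]
  {L M : P.Modules} (hMi : PicF.IsInvertible M)
  (hline : ∀ j : ℕ, 0 < j → ∀ i : ℕ, i < r → Subsingleton (Coh.HH P (CohB1.tensorPow M j) i))
  (hamp : CohB1.IsAmple L) (hinv : ClSub.IsInverseOf L M)

include hfib hMi hline hamp hinv in
theorem eventually_van_step : ∀ j : ℕ, ∀ e : ℕ, r ≤ e + j → ∀ F : P.Modules, Coh.IsCoh F →
    FlatMod.IsFlatOver f F →
    (∀ y : P, IsClosed ({y} : Set P) → ∀ D : ℕ, ringKrullDim (CMMor6.FibQuot f y) = D → GoodAt f F y D e) →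
    ∀ i : ℕ, i + j < r →
      ∃ q₀ : ℕ, ∀ q, q₀ ≤ q → Subsingleton (Coh.HH P (CohB1.tensorMod F (CohB1.tensorPow M q)) i) := by
  intro j
  induction j with
  | zero =>
    intro e he F hF hflat hgood i hi
    exact eventually_HH_bundle hMi hline hamp hinv (free_of_good f hfib hF hflat he hgood) hi
  | succ j ih =>
    intro e he F hF hflat hgood i hi
    obtain ⟨b, a, p, hp⟩ := exists_epi_twists hamp hinv hMi hF
    have hG := isFinLocFree_twists (X := P) hMi b a
    obtain ⟨hKflat, hKgood⟩ := kernel_good f hfib p hF hG hflat hgood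
    obtain ⟨q₁, hq₁⟩ := ih (e + 1) (by omega) (kernel p) (QCoh.isCoh_kernel p (Euler.isCoh_of_isFinLocFree hG) hF)
      hKflat hKgood (i + 1) (by omega)
    obtain ⟨q₂, hq₂⟩ := eventually_HH_bundle hMi hline hamp hinv hG (i := i) (by omega)
    refine ⟨max q₁ q₂, fun q hq => ?_⟩
    have hMq := Euler.isFinLocFree_of_isInvertible (Ample.isInvertible_tensorPow hMi q)
    have hS : (ShortComplex.mk (kernel.ι p) p (kernel.condition p)).ShortExact :=
      { exact := ShortComplex.exact_of_f_is_kernel _ (kernelIsKernel p) }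
    exact CMReg.subsingleton_X₃ (OX.tensor_map_shortExact (OX.flat_of_isFinLocFree hMq) hS) (hq₂ q (by omega)) (hq₁ q (by omega))

include hfib hMi hline hamp hinv in
/-- **Vanishing below the fibre depth.** -/
theorem eventually_van {F : P.Modules} (hF : Coh.IsCoh F) (hflat : FlatMod.IsFlatOver f F) (n : ℕ)
    (hd : ∀ y : P, IsClosed ({y} : Set P) → (n : ℕ∞) < LocCoh.depth (P.presheaf.stalk y) (FibMod f F y)) :
    ∃ q₀ : ℕ, ∀ q, q₀ ≤ q → ∀ i, i ≤ n →
      Subsingleton (Coh.HH P (CohB1.tensorMod F (CohB1.tensorPow M q)) i) := by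
  rcases Nat.lt_or_ge n r with hn | hn
  · have hgood : ∀ y : P, IsClosed ({y} : Set P) → ∀ D : ℕ, ringKrullDim (CMMor6.FibQuot f y) = D →
        GoodAt f F y D (n + 1) := fun y hy D _ =>
      le_trans (by exact_mod_cast (show min D (n + 1) ≤ n + 1 from min_le_right _ _))
        (le_trans (le_of_eq (Nat.cast_succ n)) (Order.add_one_le_of_lt (hd y hy)))
    have key : ∀ i : ℕ, ∃ q₀ : ℕ, i ≤ n → ∀ q, q₀ ≤ q →
        Subsingleton (Coh.HH P (CohB1.tensorMod F (CohB1.tensorPow M q)) i) := fun i => by
      by_cases hi : i ≤ n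
      · obtain ⟨q₀, h⟩ := eventually_van_step f hfib hMi hline hamp hinv (r - (n + 1)) (n + 1) (by omega) F hF
          hflat hgood i (by omega)
        exact ⟨q₀, fun _ => h⟩
      · exact ⟨0, fun h => absurd h hi⟩
    choose Q hQ using key
    exact ⟨(Finset.range (n + 1)).sup Q, fun q hq i hi => hQ i hi q
      ((Finset.le_sup (Finset.mem_range.2 (by omega))).trans hq)⟩
  · have hz : IsZero F := by
      refine HilbArt9.isZero_of_support_empty fun x hx => ?_
      obtain ⟨y, hy, hcl⟩ := IsClosed.exists_closed_singleton (QCoh.isClosed_support_of_isCoh hF) ⟨x, hx⟩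
      obtain ⟨hreg, D, hDr, hD⟩ := hfib y hcl
      letI : Algebra (S.presheaf.stalk (f y)) (P.presheaf.stalk y) := (f.stalkMap y).hom.toAlgebra
      haveI := Euler.stalk_finite hF y
      haveI : IsRegularLocalRing (P.presheaf.stalk y ⧸ fib (S.presheaf.stalk (f y)) (P.presheaf.stalk y)) := hreg
      have hd' := hd y hcl
      rcases subsingleton_or_nontrivial (FibMod f F y) with hs | hs
      · refine hy (Submodule.subsingleton_iff (P.presheaf.stalk y) |>.1 (subsingleton_of_top_le_bot ?_))
        refine le_of_eq (Submodule.eq_bot_of_le_smul_of_le_jacobson_bot _ _ Module.Finite.fg_top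
          (Submodule.Quotient.subsingleton_iff.1 hs).ge ?_)
        refine le_trans (IsLocalRing.le_maximalIdeal fun h => ?_) (maximalIdeal_le_jacobson _)
        exact not_subsingleton (P.presheaf.stalk y ⧸ fib (S.presheaf.stalk (f y)) (P.presheaf.stalk y))
          (Ideal.Quotient.subsingleton_iff.2 h)
      · haveI := hs
        have he := depth_bar_eq (A := S.presheaf.stalk (f y)) (O := P.presheaf.stalk y) (F.presheaf.stalk y)
        have hle : LocCoh.depth (P.presheaf.stalk y) (FibMod f F y) ≤ (D : ℕ∞) := by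
          haveI : Module.Finite (P.presheaf.stalk y ⧸ fib (S.presheaf.stalk (f y)) (P.presheaf.stalk y))
              (FibMod f F y) := Module.Finite.of_restrictScalars_finite (P.presheaf.stalk y) _ _
          refine le_of_eq_of_le he (WithBot.coe_le_coe.1 ?_)
          exact ((GrothLib.Depth.depth_le_supportDim _ _).trans
            ((Module.supportDim_le_ringKrullDim _ _).trans_eq hD))
        exact absurd (lt_of_lt_of_le hd' hle) (not_lt.2 (by exact_mod_cast hDr.trans hn))
    exact ⟨0, fun q _ i _ => Cohom.subsingleton_HH_of_isZero (((DCoh.tensorBi (X := P)).flip.obj (CohB1.tensorPow M q)).map_isZero hz) i⟩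

end GrothLib.RelVan7
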