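import Groth.Agent.Lib.RelVan7.Local
import Groth.Agent.Lib.RamSam.ModuleTriv
import Groth.Agent.Lib.RamSam.PullPunct
import Groth.Agent.Lib.ParaPair.Descent
import Mathlib.RingTheory.Flat.Equalizer

/-!
# Parafactoriality from the closed fibre of a flat local homomorphism
-/

set_option autoImplicit false
set_option linter.style.haveILetI false

universe u

open TensorProduct IsLocalRing Function

noncomputable section

namespace GrothLib.RelVan7

variable {A B : Type u} [CommRing A] [IsLocalRing A] [IsNoetherianRing A] [CommRing B] [IsLocalRing B]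
  [IsNoetherianRing B] [Algebra A B] [Module.Flat A B]

omit [IsLocalRing B] [IsNoetherianRing B] in
/-- The graded pieces of the extended maximal ideal of a flat algebra are free. -/
theorem free_gr_fib (n : ℕ) : Module.Free (B ⧸ fib A B)
    (↥((fib A B) ^ n) ⧸ ((fib A B) • (⊤ : Submodule B ↥((fib A B) ^ n)))) := by
  classical
  let m := maximalIdeal A
  let J := fib A B
  let k := A ⧸ m
  letI : Field k := Ideal.Quotient.field m
  let V := ↥(m ^ n) ⧸ (m • (⊤ : Submodule A ↥(m ^ n)))
  haveI : Module.Finite A ↥(m ^ n) := Module.Finite.of_fg (IsNoetherian.noetherian _)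
  haveI : Module.Finite k V := Module.Finite.of_restrictScalars_finite A k V
  let bas := Module.finBasis k V
  choose a ha using fun i => Submodule.Quotient.mk_surjective _ (bas i)
  have haJ : ∀ i, algebraMap A B (a i : A) ∈ J ^ n := fun i => by
    rw [show J ^ n = (m ^ n).map (algebraMap A B) from (Ideal.map_pow _ _ _).symm]
    exact Ideal.mem_map_of_mem _ (a i).2
  let G := ↥(J ^ n) ⧸ (J • (⊤ : Submodule B ↥(J ^ n)))
  let g : Fin (Module.finrank k V) → G := fun i => Submodule.Quotient.mk ⟨_, haJ i⟩
  let φ : (Fin (Module.finrank k V) → B ⧸ J) →ₗ[B ⧸ J] G := Fintype.linearCombination (B ⧸ J) g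
  refine Module.Free.of_equiv (LinearEquiv.ofBijective φ ⟨(injective_iff_map_eq_zero φ).2 fun c hc => ?_, ?_⟩)
  · choose b hb using fun i => Ideal.Quotient.mk_surjective (c i)
    have hmem : ∑ i, b i * algebraMap A B (a i : A) ∈ J ^ (n + 1) := by
      have h1 : (Submodule.Quotient.mk (∑ i, b i • (⟨_, haJ i⟩ : ↥(J ^ n))) : G) = 0 := by
        rw [← Submodule.mkQ_apply, map_sum]
        refine Eq.trans ?_ hc
        rw [Fintype.linearCombination_apply]
        refine Finset.sum_congr rfl fun i _ => ?_
        rw [map_smul, ← hb]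
        rfl
      rw [Submodule.Quotient.mk_eq_zero, Submodule.mem_smul_top_iff, smul_eq_mul, ← pow_succ'] at h1
      simpa using h1
    -- the inclusion of the graded piece
    let W := A ⧸ m ^ (n + 1)
    let incl : V →ₗ[A] W := Submodule.liftQ _ ((Submodule.mkQ _).comp (m ^ n).subtype) (by
      rintro x hx
      rw [LinearMap.mem_ker, LinearMap.comp_apply, Submodule.mkQ_apply, Submodule.Quotient.mk_eq_zero]
      rw [Submodule.mem_smul_top_iff, smul_eq_mul, ← pow_succ'] at hx
      exact hx)
    have hincl : Injective incl := by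
      refine (injective_iff_map_eq_zero _).2 fun z hz => ?_
      obtain ⟨x, rfl⟩ := Submodule.Quotient.mk_surjective _ z
      rw [Submodule.liftQ_apply, LinearMap.comp_apply, Submodule.mkQ_apply, Submodule.Quotient.mk_eq_zero] at hz
      rw [Submodule.Quotient.mk_eq_zero, Submodule.mem_smul_top_iff, smul_eq_mul, ← pow_succ']
      exact hz
    have hinj : Injective (incl.rTensor B) := Module.Flat.rTensor_preserves_injective_linearMap _ hincl
    have hz : (∑ i, (Submodule.Quotient.mk (a i) : V) ⊗ₜ[A] b i) = 0 := by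
      refine hinj ?_
      rw [map_sum, map_zero]
      simp only [LinearMap.rTensor_tmul]
      apply (TensorProduct.quotTensorEquivQuotSMul B (m ^ (n + 1))).injective
      rw [map_sum, map_zero]
      have : ∀ i, TensorProduct.quotTensorEquivQuotSMul B (m ^ (n + 1))
          (incl (Submodule.Quotient.mk (a i)) ⊗ₜ[A] b i) =
          Submodule.Quotient.mk ((a i : A) • b i) := fun i =>
        quotTensorEquivQuotSMul_mk_tmul _ _ _
      rw [Finset.sum_congr rfl fun i _ => this i]
      simp only [← Submodule.mkQ_apply]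
      rw [← map_sum, Submodule.mkQ_apply, Submodule.Quotient.mk_eq_zero, Ideal.smul_top_eq_map, Submodule.restrictScalars_mem, Ideal.map_pow]
      simpa only [Algebra.smul_def, mul_comm] using hmem
    funext i
    let π : V →ₗ[A] k := ((Finsupp.lapply i).comp bas.repr.toLinearMap).restrictScalars A
    have h2 := congrArg (π.rTensor B) hz
    rw [map_sum, map_zero] at h2
    simp only [LinearMap.rTensor_tmul] at h2
    rw [Finset.sum_eq_single i] at h2
    · have h3 : π (Submodule.Quotient.mk (a i)) = Ideal.Quotient.mk m (1 : A) := by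
        show (bas.repr (Submodule.Quotient.mk (a i))) i = (1 : k)
        rw [ha, Module.Basis.repr_self, Finsupp.single_eq_same]
      rw [h3] at h2
      have h4 := congrArg (TensorProduct.quotTensorEquivQuotSMul B m) h2
      rw [quotTensorEquivQuotSMul_mk_tmul, map_zero, one_smul, Submodule.Quotient.mk_eq_zero,
        Ideal.smul_top_eq_map, Submodule.restrictScalars_mem] at h4
      rw [← hb i]
      exact Ideal.Quotient.eq_zero_iff_mem.2 h4
    · intro j _ hj
      have h3 : π (Submodule.Quotient.mk (a j)) = 0 := by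
        show (bas.repr (Submodule.Quotient.mk (a j))) i = (0 : k)
        rw [ha, Module.Basis.repr_self, Finsupp.single_eq_of_ne]
        exact hj.symm
      rw [h3, TensorProduct.zero_tmul]
    · exact fun h => absurd (Finset.mem_univ i) h
  · rw [← LinearMap.range_eq_top, Fintype.range_linearCombination]
    refine eq_top_iff.2 fun z _ => ?_
    obtain ⟨⟨y, hy⟩, rfl⟩ := Submodule.Quotient.mk_surjective _ z
    have hy' : y ∈ Ideal.span ((algebraMap A B) '' (m ^ n : Ideal A)) := by
      show y ∈ (m ^ n).map (algebraMap A B)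
      rw [Ideal.map_pow]
      exact hy
    obtain ⟨S, hS⟩ : ∃ S : Submodule (B ⧸ J) G, S = Submodule.span (B ⧸ J) (Set.range g) := ⟨_, rfl⟩
    rw [← hS]
    suffices h : ∀ y : B, y ∈ Ideal.span ((algebraMap A B) '' (m ^ n : Ideal A)) →
        ∃ hy : y ∈ J ^ n, (Submodule.Quotient.mk ⟨y, hy⟩ : G) ∈ S from (h y hy').2
    intro y hy
    induction hy using Submodule.span_induction with
    | mem y hy =>
      obtain ⟨x, hx, rfl⟩ := hy
      have hxJ : algebraMap A B x ∈ J ^ n := by
        rw [show J ^ n = (m ^ n).map (algebraMap A B) from (Ideal.map_pow _ _ _).symm]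
        exact Ideal.mem_map_of_mem _ hx
      refine ⟨hxJ, ?_⟩
      choose cf hcf using fun i => Ideal.Quotient.mk_surjective (bas.repr (Submodule.Quotient.mk ⟨x, hx⟩) i)
      have h1 : (⟨x, hx⟩ : ↥(m ^ n)) - ∑ i, cf i • a i ∈ m • (⊤ : Submodule A ↥(m ^ n)) := by
        rw [← Submodule.Quotient.mk_eq_zero, Submodule.Quotient.mk_sub, sub_eq_zero]
        conv_lhs => rw [← bas.sum_repr (Submodule.Quotient.mk ⟨x, hx⟩)]
        refine Eq.trans ?_ (map_sum (Submodule.mkQ _) _ _).symm
        refine Finset.sum_congr rfl fun i _ => ?_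
        rw [map_smul, ← hcf, Submodule.mkQ_apply, ha]
        rfl
      rw [Submodule.mem_smul_top_iff, smul_eq_mul, ← pow_succ'] at h1
      have h2 : (⟨algebraMap A B x, hxJ⟩ : ↥(J ^ n)) - ∑ i, algebraMap A B (cf i) • ⟨_, haJ i⟩ ∈
          J • (⊤ : Submodule B ↥(J ^ n)) := by
        rw [Submodule.mem_smul_top_iff, smul_eq_mul, ← pow_succ',
          show J ^ (n + 1) = (m ^ (n + 1)).map (algebraMap A B) from (Ideal.map_pow _ _ _).symm]
        have := Ideal.mem_map_of_mem (algebraMap A B) h1
        simpa [Algebra.smul_def] using this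
      rw [(Submodule.Quotient.eq _).2 h2, hS, ← Submodule.mkQ_apply, map_sum]
      refine Submodule.sum_mem _ fun i _ => ?_
      rw [map_smul, ← IsScalarTower.algebraMap_smul (B ⧸ J) (algebraMap A B (cf i))]
      exact Submodule.smul_mem _ _ (Submodule.subset_span ⟨i, rfl⟩)
    | zero => exact ⟨zero_mem _, (Submodule.Quotient.mk_zero (p := (J • ⊤ : Submodule B ↥(J ^ n)))).symm ▸ zero_mem S⟩
    | add y y' _ _ hy hy' =>
      obtain ⟨h1, h1'⟩ := hy
      obtain ⟨h2, h2'⟩ := hy'
      exact ⟨add_mem h1 h2, S.add_mem h1' h2'⟩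
    | smul r y _ hy =>
      obtain ⟨h1, h1'⟩ := hy
      exact ⟨Ideal.mul_mem_left _ r h1, S.smul_mem (Ideal.Quotient.mk J r) h1'⟩

/-- A flat local algebra with parafactorial closed fibre of depth three is parafactorial. -/
theorem isParafactorial_of_fibre [IsLocalHom (algebraMap A B)] [IsLocalRing (B ⧸ fib A B)]
    (hd : (3 : ℕ∞) ≤ LocCoh.depth (B ⧸ fib A B) (B ⧸ fib A B))
    (hp : ParaF.IsParafactorialLocalRing (B ⧸ fib A B)) : ParaF.IsParafactorialLocalRing B := by
  have hJ : fib A B ≠ ⊤ := fun h =>
    not_subsingleton (B ⧸ fib A B) (Ideal.Quotient.subsingleton_iff.2 h)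
  have hdB : (2 : ℕ∞) ≤ LocCoh.depth B B :=
    le_trans (by norm_num) (RamSam.le_depth_of_grFree _ hJ free_gr_fib (n := 3) hd)
  exact (ParaPair.isParafactorialLocalRing_iff B).2 ⟨RamSam.bijective_res_of_depth_two B hdB,
    RamSam.picTrivial_of_grFree _ hd free_gr_fib ((ParaPair.isParafactorialLocalRing_iff _).1 hp).2⟩

end GrothLib.RelVan7
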