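import Groth.Agent.Lib.RelVan7.Leff
import Groth.Agent.Lib.RelVan7.Para
import Groth.Agent.Lib.UnrMono.SmoothSerre
import Groth.Agent.S2865

/-!
# The fibre depth of a relative effective divisor, and parafactorial stalks
-/

set_option autoImplicit false
set_option linter.style.haveILetI false

universe u

open CategoryTheory CategoryTheory.Limits AlgebraicGeometry IsLocalRing
open scoped TensorProduct

noncomputable section

namespace GrothLib.RelVan7

open GrothLib.QCoh (stalkLin)

theorem le_idealDepth_right {O : Type u} [CommRing O] [IsNoetherianRing O] (J : Ideal O) (n : ℕ) {X Y Z : Type u}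
    [AddCommGroup X] [Module O X] [AddCommGroup Y] [Module O Y] [AddCommGroup Z] [Module O Z] [Module.Finite O X]
    [Module.Finite O Y] [Module.Finite O Z] (f : X →ₗ[O] Y) (g : Y →ₗ[O] Z) (hf : Function.Injective f)
    (hg : Function.Surjective g) (hex : Function.Exact f g)
    (hX : ((n + 1 : ℕ) : ℕ∞) ≤ LocCoh.idealDepth J X) (hY : (n : ℕ∞) ≤ LocCoh.idealDepth J Y) :
    (n : ℕ∞) ≤ LocCoh.idealDepth J Z := by
  rw [GrothLib.Depth.le_idealDepth_iff_ext] at hX hY ⊢
  intro i hi
  let S : ShortComplex (ModuleCat.{u} O) := ShortComplex.mk (ModuleCat.ofHom f) (ModuleCat.ofHom g)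
    (ModuleCat.hom_ext (LinearMap.ext fun z => hex.apply_apply_eq_zero z))
  have hS : S.ShortExact :=
    { exact := (ShortComplex.moduleCat_exact_iff _).2 fun v hv => (hex v).1 hv
      mono_f := (ModuleCat.mono_iff_injective _).2 hf
      epi_g := (ModuleCat.epi_iff_surjective _).2 hg }
  refine subsingleton_of_forall_eq 0 fun e => ?_
  obtain ⟨x, hx⟩ := Abelian.Ext.covariant_sequence_exact₃ (ModuleCat.of O (O ⧸ J)) hS e rfl
    (@Subsingleton.elim _ (hX (i + 1) (by omega)) _ _)
  rw [← hx, @Subsingleton.elim _ (hY i hi) x 0, Abelian.Ext.zero_comp]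

variable {X S : Scheme.{u}} (f : X ⟶ S) [IsLocallyNoetherian X]

/-- The fibre depth of a relative effective divisor drops by at most one. -/
theorem depth_fibMod_quot (J : X.IdealSheafData) [Flat (J.subschemeι ≫ f)]
    (hJ : PicF.IsInvertible (ClSub.idealMod J)) (x : X) (n : ℕ)
    (h : ((n + 1 : ℕ) : ℕ∞) ≤ LocCoh.depth (X.presheaf.stalk x) (FibMod f (Coh.structureModule X) x)) :
    (n : ℕ∞) ≤ LocCoh.depth (X.presheaf.stalk x) (FibMod f (ClSub.quotMod J) x) := by
  have hI := Euler.isFinLocFree_of_isInvertible hJ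
  have hO : FlatMod.IsFinLocFree (Coh.structureModule X) :=
    Euler.isFinLocFree_of_isInvertible Euler.isInvertible_structure
  have hIc := Euler.isCoh_of_isFinLocFree hI
  have hOc := Euler.isCoh_of_isFinLocFree hO
  haveI := hIc.1
  haveI := ((LocFree8.isFinLocFree_iff_fp_free _).1 hI).2 x
  haveI : IsLocallyNoetherian J.subscheme := LocallyOfFiniteType.isLocallyNoetherian J.subschemeι
  have hQc : Coh.IsCoh (ClSub.quotMod J) :=
    FormalExist7.isCoh_pushforward J.subschemeι (Euler.isCoh_of_isInvertible Euler.isInvertible_structure)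
  have hflatQ : FlatMod.IsFlatOverAt f (ClSub.quotMod J) x := by
    refine isFlatOver_push _ _ (fun z => ?_) x
    obtain ⟨u⟩ := AssPts.exists_stalk_unit_equiv z
    haveI := Module.Free.of_equiv u
    exact isFlatOverAt_of_free _ z
  have hS := ConnH0.shortExact_ideal J
  have hex : Function.Exact (stalkLin (ClSub.idealModι J) x) (stalkLin (ClSub.toSubscheme J) x) :=
    ShortComplex.ShortExact.moduleCat_exact_iff_function_exact _ |>.1 ((OX.exact_iff _).1 hS.exact x)
  letI := FlatMod.moduleStalkOver f (ClSub.idealMod J) x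
  letI := FlatMod.moduleStalkOver f (Coh.structureModule X) x
  letI := FlatMod.moduleStalkOver f (ClSub.quotMod J) x
  letI : Algebra (S.presheaf.stalk (f x)) (X.presheaf.stalk x) := (f.stalkMap x).hom.toAlgebra
  haveI : IsScalarTower (S.presheaf.stalk (f x)) (X.presheaf.stalk x) ((ClSub.idealMod J).presheaf.stalk x) :=
    IsScalarTower.of_algebraMap_smul fun _ _ => rfl
  haveI : IsScalarTower (S.presheaf.stalk (f x)) (X.presheaf.stalk x) ((Coh.structureModule X).presheaf.stalk x) :=
    IsScalarTower.of_algebraMap_smul fun _ _ => rfl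
  haveI : IsScalarTower (S.presheaf.stalk (f x)) (X.presheaf.stalk x) ((ClSub.quotMod J).presheaf.stalk x) :=
    IsScalarTower.of_algebraMap_smul fun _ _ => rfl
  haveI : Module.Flat (S.presheaf.stalk (f x)) ((ClSub.quotMod J).presheaf.stalk x) := hflatQ
  haveI := Euler.stalk_finite hIc x
  haveI := Euler.stalk_finite hOc x
  haveI := Euler.stalk_finite hQc x
  haveI : Mono (ClSub.idealModι J) := hS.mono_f
  haveI : Epi (ClSub.toSubscheme J) := hS.epi_g
  obtain ⟨h1, h2, h3⟩ := bar_ses (A := S.presheaf.stalk (f x)) (stalkLin (ClSub.idealModι J) x)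
    (stalkLin (ClSub.toSubscheme J) x) (QCoh.stalkLin_injective _ x) (QCoh.stalkLin_surjective _ x) hex
  exact le_idealDepth_right _ n _ _ h1 h2 h3 (depth_fibMod_of_free f x _ hIc (n + 1) h)
    (le_trans (by exact_mod_cast n.le_succ) h)

/-- A point with parafactorial fibre of depth three on a flat family is parafactorial. -/
theorem isParafactorial_stalk [Flat f] [IsLocallyNoetherian S] [LocallyOfFiniteType f] (x : X)
    (hd : (3 : ℕ∞) ≤ LocCoh.depth ↑(CInt.fiberStalk f x) ↑(CInt.fiberStalk f x))
    (hp : ParaF.IsParafactorialLocalRing ↑(CInt.fiberStalk f x)) :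
    ParaF.IsParafactorialLocalRing (X.presheaf.stalk x) := by
  obtain ⟨e⟩ := CMMor6.nonempty_fibQuot_equiv f x
  haveI : IsNoetherianRing ((f.fiber (f x)).presheaf.stalk (f.asFiber x)) := isNoetherianRing_of_ringEquiv _ e
  letI : Algebra (S.presheaf.stalk (f x)) (X.presheaf.stalk x) := (f.stalkMap x).hom.toAlgebra
  haveI : IsLocalHom (algebraMap (S.presheaf.stalk (f x)) (X.presheaf.stalk x)) :=
    inferInstanceAs (IsLocalHom (f.stalkMap x).hom)
  haveI : Module.Flat (S.presheaf.stalk (f x)) (X.presheaf.stalk x) := Flat.stalkMap f x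
  haveI : IsLocalRing (CMMor6.FibQuot f x) := e.symm.isLocalRing
  refine isParafactorial_of_fibre (A := S.presheaf.stalk (f x)) (B := X.presheaf.stalk x) ?_ ?_
  · exact hd.trans_eq (SmoothSerre.depth_eq_of_ringEquiv e).symm
  · letI : Algebra (CMMor6.FibQuot f x) ↑(CInt.fiberStalk f x) := e.toRingHom.toAlgebra
    haveI : IsNoetherianRing ↑(CInt.fiberStalk f x) := isNoetherianRing_of_ringEquiv _ e
    haveI : IsLocalHom (algebraMap (CMMor6.FibQuot f x) ↑(CInt.fiberStalk f x)) :=
      ⟨fun a ha => (e.symm_apply_apply a) ▸ ha.map e.symm⟩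
    have hs : Function.Surjective (algebraMap (CMMor6.FibQuot f x) ↑(CInt.fiberStalk f x)) := e.surjective
    let l : CMMor6.FibQuot f x ≃ₗ[CMMor6.FibQuot f x] ↑(CInt.fiberStalk f x) :=
      { e.toAddEquiv with map_smul' := fun a b => map_mul e a b }
    haveI : Module.Flat (CMMor6.FibQuot f x) ↑(CInt.fiberStalk f x) := Module.Flat.of_linearEquiv l.symm
    refine Groth.Agent.S2865.result (CMMor6.FibQuot f x) ↑(CInt.fiberStalk f x) ?_ hp
    rw [ringKrullDim_eq_of_ringEquiv (Ideal.quotEquivOfEq
      (IsLocalRing.map_maximalIdeal_of_surjective _ hs))]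
    exact ringKrullDim_eq_zero_of_field (IsLocalRing.ResidueField ↑(CInt.fiberStalk f x))

end GrothLib.RelVan7
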