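import Groth.Agent.Lib.RelVan7.Transfer
import Groth.Agent.Lib.FibreFlat.Stalk
import Groth.Agent.Lib.DimCut.FibreStalk
import Groth.Agent.Lib.OX.PullbackStalk
import Groth.Agent.Lib.AssPts.Flat
import Groth.Prelude.Def_CInt

/-!
# Fibre depth read on the stalks of the fibre
-/

set_option autoImplicit false
set_option linter.style.haveILetI false

universe u

open CategoryTheory CategoryTheory.Limits AlgebraicGeometry IsLocalRing
open scoped TensorProduct

noncomputable section

namespace GrothLib.RelVan7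

variable {X S : Scheme.{u}} (f : X ⟶ S) [IsLocallyNoetherian X] [LocallyOfFiniteType f]

theorem depth_fiberMod {F : X.Modules} (hF : Coh.IsCoh F) (s : S) (z : f.fiber s) (x : X) (hz : f.fiberι s z = x) :
    LocCoh.depth ((f.fiber s).presheaf.stalk z) ((CohIII.fiberMod f F s).presheaf.stalk z) =
      LocCoh.depth (X.presheaf.stalk x) (FibMod f F x) := by
  subst hz
  let A := X.presheaf.stalk (f.fiberι s z)
  let B := (f.fiber s).presheaf.stalk z
  let φ : A →+* B := ((f.fiberι s).stalkMap z).hom
  obtain ⟨hsurj, hker⟩ := GrothLib.FibreFlat.fiberι_stalkMap f s z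
  letI : Algebra A B := φ.toAlgebra
  haveI : IsNoetherianRing B := isNoetherianRing_of_surjective A B φ hsurj
  let W := (CohIII.fiberMod f F s).presheaf.stalk z
  letI : Module A W := Module.compHom _ φ
  haveI : IsScalarTower A B W := IsScalarTower.of_algebraMap_smul fun _ _ => rfl
  let N := F.presheaf.stalk (f.fiberι s z)
  haveI := Euler.stalk_finite hF (f.fiberι s z)
  let e₁ : W ≃ₗ[B] (ModuleCat.extendScalars φ).obj (ModuleCat.of A N) :=
    ((OX.pullStalkIso (f.fiberι s) z).app F).toLinearEquiv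
  let e₂ : ((ModuleCat.extendScalars φ).obj (ModuleCat.of A N)) ≃+ B ⊗[A] N := AddEquiv.refl _
  let e₃ : W ≃ₗ[A] B ⊗[A] N :=
    { e₁.toAddEquiv.trans e₂ with map_smul' := fun a w => e₁.map_smul (φ a) w }
  let q : (A ⧸ (maximalIdeal (S.presheaf.stalk (f (f.fiberι s z)))).map (f.stalkMap (f.fiberι s z)).hom) ≃ₗ[A] B :=
    ((Ideal.quotientEquivAlgOfEq A hker.symm).trans
      (Ideal.quotientKerAlgEquivOfSurjective (f := Algebra.ofId A B) hsurj)).toLinearEquiv
  let e : W ≃ₗ[A] FibMod f F (f.fiberι s z) :=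
    e₃ ≪≫ₗ (TensorProduct.congr q.symm (LinearEquiv.refl A N)) ≪≫ₗ TensorProduct.quotTensorEquivQuotSMul N _
  haveI : Module.Finite A W := Module.Finite.equiv e.symm
  haveI : Module.Finite B W := Module.Finite.of_restrictScalars_finite A B W
  exact (Faltings.depth_eq_of_surjective (A := A) (A' := B) hsurj W).symm.trans (Depth17.idealDepth_congr _ e)

theorem depth_fiberStalk {F : X.Modules} (hF : Coh.IsCoh F) (x : X) :
    LocCoh.depth ↑(CInt.fiberStalk f x) ((CohIII.fiberMod f F (f x)).presheaf.stalk (f.asFiber x)) =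
      LocCoh.depth (X.presheaf.stalk x) (FibMod f F x) :=
  depth_fiberMod f hF (f x) (f.asFiber x) x (f.fiberι_asFiber x)

theorem depth_fiberStalk_structure (x : X) :
    LocCoh.depth ↑(CInt.fiberStalk f x) ↑(CInt.fiberStalk f x) =
      LocCoh.depth (X.presheaf.stalk x) (FibMod f (Coh.structureModule X) x) := by
  rw [← depth_fiberStalk f (Euler.isCoh_of_isInvertible (Euler.isInvertible_structure (X := X))) x]
  obtain ⟨g⟩ := Ample.nonempty_pullback_structureModule (f.fiberι (f x))
  obtain ⟨u⟩ := AssPts.exists_stalk_unit_equiv (f.asFiber x)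
  exact Depth17.idealDepth_congr _ (u ≪≫ₗ ((OX.stalk (f.asFiber x)).mapIso g).toLinearEquiv.symm)

omit [LocallyOfFiniteType f] [IsLocallyNoetherian X] in
theorem isClosed_asFiber {x : X} (hx : IsClosed ({x} : Set X)) :
    IsClosed ({f.asFiber x} : Set (f.fiber (f x))) := by
  have h := hx.preimage (f.fiberι (f x)).continuous
  rwa [show (f.fiberι (f x)) ⁻¹' {x} = {f.asFiber x} from Set.ext fun w =>
    ⟨fun h => (f.fiberι (f x)).isEmbedding.injective (h.trans (f.fiberι_asFiber x).symm),
      fun h => by rw [Set.mem_preimage, Set.mem_singleton_iff, Set.mem_singleton_iff.1 h, f.fiberι_asFiber]⟩] at h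

end GrothLib.RelVan7
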