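import Groth.Agent.Lib.RelVan7.Main
import Groth.Agent.Lib.RelVan7.Fibre
import Groth.Agent.Lib.LefAmp7.Points
import Mathlib.AlgebraicGeometry.Morphisms.QuasiFinite

/-!
# Points away from an ample divisor are closed in their fibres
-/

set_option autoImplicit false
set_option linter.style.haveILetI false

universe u

open CategoryTheory CategoryTheory.Limits AlgebraicGeometry TopologicalSpace

namespace GrothLib.RelVan7

variable {X : Scheme.{u}} (A : Type u) [CommRing A] [IsNoetherianRing A] [X.Over (Spec (CommRingCat.of A))]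
  [IsProper (X ↘ Spec (CommRingCat.of A))]

omit [IsNoetherianRing A] in
/-- Points whose closure lies in a quasi-affine open are closed in their fibres. -/
theorem isClosed_asFiber_of_closure_subset (W : X.Opens) [(W : Scheme.{u}).IsQuasiAffine] {x : X}
    (hx : closure ({x} : Set X) ⊆ W) :
    IsClosed ({(X ↘ Spec (CommRingCat.of A)).asFiber x} :
      Set ((X ↘ Spec (CommRingCat.of A)).fiber ((X ↘ Spec (CommRingCat.of A)) x))) := by
  let f := X ↘ Spec (CommRingCat.of A)
  let T : Closeds X := ⟨closure {x}, isClosed_closure⟩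
  let C := (Scheme.IdealSheafData.vanishingIdeal T).subscheme
  let j : C ⟶ X := (Scheme.IdealSheafData.vanishingIdeal T).subschemeι
  have hrange : Set.range j = closure ({x} : Set X) := by
    rw [Scheme.IdealSheafData.range_subschemeι, Scheme.IdealSheafData.coe_support_vanishingIdeal]
    rfl
  let s : C ⟶ Spec (CommRingCat.of A) := j ≫ f
  haveI : IsProper s := inferInstance
  let jW : C ⟶ W := IsOpenImmersion.lift W.ι j (by rw [Scheme.Opens.range_ι, hrange]; exact hx)
  haveI : IsImmersion (jW ≫ W.ι) := by rw [IsOpenImmersion.lift_fac]; infer_instance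
  haveI : IsImmersion jW := IsImmersion.of_comp jW W.ι
  let φ : C ⟶ Spec Γ(W, ⊤) := jW ≫ (W : Scheme.{u}).toSpecΓ
  let q : Spec Γ(W, ⊤) ⟶ Spec (CommRingCat.of A) :=
    Spec.map ((Scheme.ΓSpecIso (CommRingCat.of A)).inv ≫ (W.ι ≫ f).appTop)
  have hφq : φ ≫ q = s := by
    simp only [q, φ, s, Spec.map_comp, Category.assoc]
    rw [← Scheme.toSpecΓ_naturality_assoc]
    simp only [Category.assoc, toSpecΓ_SpecMap_ΓSpecIso_inv, Category.comp_id]
    exact IsOpenImmersion.lift_fac_assoc _ _ _ _
  haveI : IsProper (φ ≫ q) := by rw [hφq]; infer_instance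
  haveI : IsProper φ := IsProper.of_comp φ q
  haveI : IsClosedImmersion φ := IsClosedImmersion.of_isPreimmersion φ φ.isClosedMap.isClosed_range
  haveI : IsAffine C := isAffine_of_isAffineHom φ
  haveI : IsFinite s := IsFinite.iff_isProper_and_isAffineHom.2 ⟨inferInstance, inferInstance⟩
  refine isClosed_of_closure_subset fun w hw => ?_
  have h1 : f.fiberι (f x) w ∈ closure ({x} : Set X) := by
    have := image_closure_subset_closure_image (f.fiberι (f x)).continuous (Set.mem_image_of_mem (f.fiberι (f x)) hw)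
    rwa [Set.image_singleton, f.fiberι_asFiber] at this
  obtain ⟨c', hc'⟩ : f.fiberι (f x) w ∈ Set.range j := hrange ▸ h1
  obtain ⟨c, hc⟩ : x ∈ Set.range j := hrange ▸ subset_closure rfl
  have hcc : c ⤳ c' := by
    rw [← j.isEmbedding.isInducing.specializes_iff, hc, hc', specializes_iff_mem_closure]
    exact h1
  have hm : c ∈ s ⁻¹' {f x} := by
    show f (j c) = f x
    rw [hc]
  have hm' : c' ∈ s ⁻¹' {f x} := by
    show f (j c') = f x
    rw [hc']
    exact GrothLib.FibreFlat.fiberι_comp_apply f (f x) w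
  haveI : DiscreteTopology ↥(s ⁻¹' {f x}) := (s.isDiscrete_preimage_singleton (f x)).to_subtype
  have he : (⟨c, hm⟩ : ↥(s ⁻¹' {f x})) = ⟨c', hm'⟩ := ((subtype_specializes_iff _ _).2 hcc).eq
  refine (f.fiberι (f x)).isEmbedding.injective ?_
  have he' : c = c' := congrArg Subtype.val he
  rw [← hc', ← he', hc, f.fiberι_asFiber]

include A in
/-- Points outside a neighbourhood of an ample divisor are closed in their fibres. -/
theorem isClosed_asFiber_of_notMem (𝓘 : X.IdealSheafData) {L : X.Modules}
    (hL : ClSub.IsInverseOf L (ClSub.idealMod 𝓘)) (hI : PicF.IsInvertible (ClSub.idealMod 𝓘))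
    (hamp : CohB1.IsAmple L) {U : X.Opens} (hU : (𝓘.support : Set X) ⊆ U) {x : X} (hx : x ∉ U) :
    IsClosed ({(X ↘ Spec (CommRingCat.of A)).asFiber x} :
      Set ((X ↘ Spec (CommRingCat.of A)).fiber ((X ↘ Spec (CommRingCat.of A)) x))) := by
  haveI := isNoetherian_of_proper A (X := X)
  obtain ⟨c, a, hcls, hloc⟩ := Cube.hasSec_compl_support (IdealModSec.isEffCartier_of_isInvertible hI)
  rw [← Cube.clsMod_eq_inv_of_isInverseOf hamp.1 hI hL] at hcls
  obtain ⟨e₀⟩ := Cube.cls_eq_iff.1 (hcls.symm : Cube.cls _ = Cube.cls c)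
  let e : L ≅ c.twist 1 := (Ample.exists_cocycle hamp.1).choose_spec.some ≪≫ e₀
  haveI : (c.locus a : Scheme.{u}).IsQuasiAffine := c.isQuasiAffine_locus ((c.isAmple_iff e).1 hamp).2 (n := 0) a
  refine isClosed_asFiber_of_closure_subset A (c.locus a) fun z hz => ?_
  rw [hloc]
  exact fun hzY => ((closure_minimal (Set.singleton_subset_iff.2 hx) U.2.isClosed_compl) hz) (hU hzY)

end GrothLib.RelVan7
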