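import Groth.Agent.Lib.RelVan7.Limit
import Groth.Agent.Lib.RelVan7.Points
import Groth.Agent.Lib.LefAmp7.Open
import Groth.Agent.S2252
import Groth.Agent.Lib.OX.ExtFinite

/-!
# The Lefschetz condition under fibre depth two
-/

set_option autoImplicit false
set_option linter.style.haveILetI false

universe u

open CategoryTheory CategoryTheory.Limits AlgebraicGeometry CategoryTheory.Abelian

noncomputable section

namespace GrothLib.RelVan7

attribute [local instance] LocFreeHom.hasSheafHom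

variable {X : Scheme.{u}}

/-- Modules with free stalks are at least as deep on the fibres as the structure module. -/
theorem depth_fibMod_of_free {S : Scheme.{u}} (f : X ⟶ S) [IsLocallyNoetherian X] (x : X) (G : X.Modules)
    (hG : Coh.IsCoh G) [Module.Free (X.presheaf.stalk x) (G.presheaf.stalk x)] (d : ℕ)
    (h : (d : ℕ∞) ≤ LocCoh.depth (X.presheaf.stalk x) (FibMod f (Coh.structureModule X) x)) :
    (d : ℕ∞) ≤ LocCoh.depth (X.presheaf.stalk x) (FibMod f G x) := by
  let O := X.presheaf.stalk x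
  let J : Ideal O := (IsLocalRing.maximalIdeal (S.presheaf.stalk (f x))).map (f.stalkMap x).hom
  haveI := Euler.stalk_finite hG x
  haveI : Nontrivial (O ⧸ J) := Ideal.Quotient.nontrivial_iff.mpr fun h' =>
    (IsLocalRing.maximalIdeal.isMaximal O).ne_top (eq_top_iff.mpr (h' ▸
      Ideal.map_le_iff_le_comap.mpr fun a ha => map_nonunit (f.stalkMap x).hom a ha))
  haveI : IsLocalRing (O ⧸ J) := IsLocalRing.of_surjective' _ Ideal.Quotient.mk_surjective
  obtain ⟨u⟩ := AssPts.exists_stalk_unit_equiv x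
  haveI : Module.Finite O ((Coh.structureModule X).presheaf.stalk x) := Module.Finite.equiv u
  have key : ∀ (M : Type u) [AddCommGroup M] [Module O M] [Module.Finite O M],
      LocCoh.depth O (M ⧸ (J • ⊤ : Submodule O M)) = LocCoh.depth (O ⧸ J) (M ⧸ (J • ⊤ : Submodule O M)) := by
    intro M _ _ _
    haveI : Module.Finite (O ⧸ J) (M ⧸ (J • ⊤ : Submodule O M)) := Module.Finite.of_restrictScalars_finite O _ _
    exact Faltings.depth_eq_of_surjective Ideal.Quotient.mk_surjective _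
  rw [key] at h ⊢
  haveI : Module.Finite (O ⧸ J) (G.presheaf.stalk x ⧸ (J • ⊤ : Submodule O (G.presheaf.stalk x))) :=
    Module.Finite.of_restrictScalars_finite O _ _
  haveI : Module.Free (O ⧸ J) (G.presheaf.stalk x ⧸ (J • ⊤ : Submodule O (G.presheaf.stalk x))) :=
    Module.Free.of_equiv (LinearEquiv.extendScalarsOfSurjective (S := O ⧸ J) Ideal.Quotient.mk_surjective
      (TensorProduct.quotTensorEquivQuotSMul (G.presheaf.stalk x) J))
  refine DepthAlong.le_depth_of_free d (h.trans (le_of_eq ?_))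
  refine Depth17.idealDepth_congr _ (LinearEquiv.extendScalarsOfSurjective (S := O ⧸ J) Ideal.Quotient.mk_surjective
    ((Submodule.Quotient.equiv _ (J • ⊤ : Submodule O O) u.symm ?_).trans (Submodule.quotEquivOfEq _ J ?_)))
  · rw [Submodule.map_smul'', Submodule.map_top, LinearEquiv.range]
  · rw [Ideal.smul_eq_mul, Ideal.mul_top]

variable (A : Type u) [CommRing A] [IsNoetherianRing A] [X.Over (Spec (CommRingCat.of A))]
  [IsProper (X ↘ Spec (CommRingCat.of A))] [Flat (X ↘ Spec (CommRingCat.of A))]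

include A in
/-- High powers of an ample ideal have no `Ext` in degrees `0, 1` against bundles. -/
theorem eventually_ext_vanish [HasExt.{u} X.Modules] (𝓘 : X.IdealSheafData) {L : X.Modules}
    (hL : ClSub.IsInverseOf L (ClSub.idealMod 𝓘)) (hamp : CohB1.IsAmple L)
    (hdepth : ∀ x : X, IsClosed ({x} : Set X) →
      (2 : ℕ∞) ≤ LocCoh.depth (X.presheaf.stalk x) (FibMod (X ↘ Spec (CommRingCat.of A)) (Coh.structureModule X) x))
    {P : X.Modules} (hP : FlatMod.IsFinLocFree P) :
    ∃ n₀, ∀ n, n₀ ≤ n → Subsingleton (Ext P (ClSub.idealMod (𝓘 ^ (n + 1))) 0) ∧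
      Subsingleton (Ext P (ClSub.idealMod (𝓘 ^ (n + 1))) 1) := by
  haveI := isNoetherian_of_proper A (X := X)
  let F : X.Modules := LocFreeDual20.dual P
  have hF : FlatMod.IsFinLocFree F := HomCorep20.isFinLocFree_dual hP
  have hFc := Euler.isCoh_of_isFinLocFree hF
  haveI := hFc.1
  have hfree := ((LocFree8.isFinLocFree_iff_fp_free F).1 hF).2
  obtain ⟨m₀, hm₀⟩ := eventually_vanish_idealPow A hL hamp hFc (fun x => isFlatOverAt_of_free _ x) 1 fun x hx =>
    lt_of_lt_of_le (by norm_num) (depth_fibMod_of_free _ x F hFc 2 (hdepth x hx))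
  refine ⟨m₀, fun m hm => ?_⟩
  let j : (DCoh.sheafHom P).obj (ClSub.idealMod (𝓘 ^ (m + 1))) ≅
      (DCoh.tensorBi.obj (ClSub.idealMod (𝓘 ^ (m + 1)))).obj F :=
    ((LocFreeDual20.dualIso hP).app (ClSub.idealMod (𝓘 ^ (m + 1)))).symm
  have key : ∀ q, q ≤ 1 → Subsingleton (Ext P (ClSub.idealMod (𝓘 ^ (m + 1))) q) := fun q hq => by
    obtain ⟨f⟩ := LocFreeDual20.nonempty_ext_addEquiv_HH hP (ClSub.idealMod (𝓘 ^ (m + 1))) q
    haveI := CMReg.subsingleton_of_iso j.symm (hm₀ m hm q hq)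
    exact f.toEquiv.subsingleton
  exact ⟨key 0 zero_le_one, key 1 le_rfl⟩

include A in
/-- `Lef(X, Y)` under fibre depth two. -/
theorem lefCond_of_fibre_depth (𝓘 : X.IdealSheafData) {L : X.Modules}
    (hL : ClSub.IsInverseOf L (ClSub.idealMod 𝓘)) (hamp : CohB1.IsAmple L)
    (hdepth : ∀ x : X, IsClosed ({((X ↘ Spec (CommRingCat.of A))).asFiber x} :
        Set ↥(((X ↘ Spec (CommRingCat.of A))).fiber (((X ↘ Spec (CommRingCat.of A))).base x))) →
      (2 : ℕ∞) ≤ LocCoh.depth ↑(CInt.fiberStalk (X ↘ Spec (CommRingCat.of A)) x)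
        ↑(CInt.fiberStalk (X ↘ Spec (CommRingCat.of A)) x)) : Lef.LefCond X 𝓘 := by
  haveI := isNoetherian_of_proper A (X := X)
  haveI : HasExt.{u} X.Modules := hasExt_of_enoughInjectives _
  have hI := LefAmp7.isInvertible_idealMod_of_inverse hamp.1 hL
  intro U hU D hD
  have hd2 : Depth.DepthTwoOutside U := fun x hx =>
    DimCut.depth_stalk_ge (X ↘ Spec (CommRingCat.of A)) x 2
      (hdepth x (isClosed_asFiber_of_notMem A 𝓘 hL hI hamp hU hx))
  have hdc : ∀ x : X, IsClosed ({x} : Set X) →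
      (2 : ℕ∞) ≤ LocCoh.depth (X.presheaf.stalk x) (FibMod (X ↘ Spec (CommRingCat.of A)) (Coh.structureModule X) x) :=
    fun x hx => by
      rw [← depth_fiberStalk_structure]
      exact hdepth x (isClosed_asFiber _ hx)
  have hDc := Euler.isCoh_of_isFinLocFree hD
  haveI : Coh.IsQCoh D := hDc.1
  obtain ⟨D', hq, hft, ⟨e⟩⟩ := Groth.Agent.S2252.result
    (fun x => ⟨⊤, trivial, inferInstance⟩) U D hDc.2
  have hM : PicF.IsInvertible (ClSub.idealMod 𝓘) := hI
  obtain ⟨b, a, p, hp⟩ := exists_epi_twists hamp hL hM (E := D') ⟨hq, hft⟩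
  obtain ⟨b', a', r, hr⟩ := exists_epi_twists hamp hL hM
    (QCoh.isCoh_kernel p (Euler.isCoh_of_isFinLocFree (isFinLocFree_twists hM b a)) ⟨hq, hft⟩)
  exact LefAmp7.homBij_open 𝓘 hU (FEt21.app_ι_bijective_of_depthTwo hd2) e
    (LefAmp7.homBij_of_epi 𝓘 p r
      (LefAmp7.homBij_of_vanish 𝓘 _ (eventually_ext_vanish A 𝓘 hL hamp hdc (isFinLocFree_twists hM b a)))
      (LefAmp7.homBij_of_vanish 𝓘 _ (eventually_ext_vanish A 𝓘 hL hamp hdc (isFinLocFree_twists hM b' a'))))

end GrothLib.RelVan7
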