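import Groth.Agent.Lib.RelVan7.Lef
import Groth.Agent.Lib.LeffAmp7.Field
import Groth.Prelude.Def_LefX

/-!
# Algebraization of bundles on the completion along an ample divisor, relative version
-/

set_option autoImplicit false
set_option linter.style.haveILetI false

universe u

open CategoryTheory CategoryTheory.Limits AlgebraicGeometry TopologicalSpace

noncomputable section

namespace GrothLib.RelVan7

open GrothLib.LeffAmp7

variable {X : Scheme.{u}} (A : Type u) [CommRing A] [IsNoetherianRing A] [X.Over (Spec (CommRingCat.of A))]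
  [IsProper (X ↘ Spec (CommRingCat.of A))] [IsLocallyNoetherian X] {L : X.Modules} (hamp : CohB1.IsAmple L)
  (𝓘 : X.IdealSheafData) (hI : PicF.IsInvertible (ClSub.idealMod 𝓘))
  (hL : ClSub.IsInverseOf L (ClSub.idealMod 𝓘))

include A hamp hI hL in
theorem van_of_fibre_depth {F : X.Modules} (hF : Coh.IsCoh F)
    (hflat : FlatMod.IsFlatOver (X ↘ Spec (CommRingCat.of A)) F)
    (hd : ∀ x : X, IsClosed ({x} : Set X) →
      (2 : ℕ∞) ≤ LocCoh.depth (X.presheaf.stalk x) (FibMod (X ↘ Spec (CommRingCat.of A)) F x)) :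
    Van (twist 𝓘 hI) F := by
  obtain ⟨m₀, hm₀⟩ := eventually_vanish A hamp hL hF hflat 1 fun x hx => lt_of_lt_of_le (by norm_num) (hd x hx)
  refine ⟨m₀, fun m hm i hi => ?_⟩
  obtain ⟨e⟩ := nonempty_twistMod_neg 𝓘 hI m
  let j : ((twist 𝓘 hI).T (-(m : ℤ))).obj F ≅ CohB1.tensorMod F (CohB1.tensorPow (ClSub.idealMod 𝓘) m) :=
    ((DCoh.tensorBi (X := X)).obj F).mapIso e
  exact CMReg.subsingleton_of_iso j.symm (hm₀ m hm i hi)

include A hamp hI hL in
theorem pos_of_ample {M : X.Modules} (hM : Coh.IsCoh M) : Pos (twist 𝓘 hI) M := by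
  haveI := isNoetherian_of_proper A (X := X)
  obtain ⟨n₀, hn₀⟩ := SerreVanish.exists_forall_subsingleton (A := A) hamp hM
  obtain ⟨c, ⟨e⟩⟩ := Ample.exists_cocycle hamp.1
  haveI := hM.1
  obtain ⟨n₁, hn₁⟩ := c.eventually_isGloballyGenerated M ((c.isAmple_iff e).1 hamp).2
    (fun _ => ⟨⊤, trivial, fun W hW _ => FormalExist7.moduleFinite_sections_of_isCoh hM hW⟩)
  refine ⟨max n₀ n₁, fun ν hν => ?_⟩
  obtain ⟨τ⟩ := nonempty_twistMod_nat hamp 𝓘 hI hL ν
  obtain ⟨d⟩ := c.nonempty_tensorPow_iso e ν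
  obtain ⟨t⟩ := c.nonempty_tensor_modTwist M ν
  let j : ((twist 𝓘 hI).T (ν : ℤ)).obj M ≅ CohB1.tensorMod M (CohB1.tensorPow L ν) :=
    ((DCoh.tensorBi (X := X)).obj M).mapIso τ
  refine ⟨CMReg.subsingleton_of_iso j.symm (hn₀ ν ((le_max_left _ _).trans hν) 1 le_rfl), ?_⟩
  let w := ((DCoh.tensorBi (X := X)).obj M).mapIso d ≪≫ t
  have hgg := Ample.isGloballyGenerated_of_iso w.symm (hn₁ ν ((le_max_right _ _).trans hν))
  obtain ⟨r, p, hp⟩ := CurveMult.exists_epi_freeMod
    (QCoh.isCoh_of_iso w.symm (Euler.isCoh_modTwist c hM ν)) hgg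
  haveI := hp
  exact ⟨r, p ≫ j.inv, inferInstance⟩

/-- A bundle on a flat closed subscheme of fibre depth two is flat with that fibre depth upstairs. -/
theorem flat_depth_push (J : X.IdealSheafData) [Flat (J.subschemeι ≫ (X ↘ Spec (CommRingCat.of A)))]
    (hdepth0 : ∀ y : ↥(J.subscheme), IsClosed ({((J.subschemeι ≫ (X ↘ Spec (CommRingCat.of A)))).asFiber y} :
        Set ↥(((J.subschemeι ≫ (X ↘ Spec (CommRingCat.of A)))).fiber
          (((J.subschemeι ≫ (X ↘ Spec (CommRingCat.of A)))).base y))) →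
      (2 : ℕ∞) ≤ LocCoh.depth ↑(CInt.fiberStalk (J.subschemeι ≫ (X ↘ Spec (CommRingCat.of A))) y)
        ↑(CInt.fiberStalk (J.subschemeι ≫ (X ↘ Spec (CommRingCat.of A))) y))
    {E : J.subscheme.Modules} (hE : FlatMod.IsFinLocFree E) :
    FlatMod.IsFlatOver (X ↘ Spec (CommRingCat.of A)) ((Scheme.Modules.pushforward J.subschemeι).obj E) ∧
      ∀ x : X, IsClosed ({x} : Set X) → (2 : ℕ∞) ≤ LocCoh.depth (X.presheaf.stalk x)
        (FibMod (X ↘ Spec (CommRingCat.of A)) ((Scheme.Modules.pushforward J.subschemeι).obj E) x) := by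
  haveI := isNoetherian_of_proper A (X := X)
  haveI : IsLocallyNoetherian J.subscheme := LocallyOfFiniteType.isLocallyNoetherian J.subschemeι
  have hEc := Euler.isCoh_of_isFinLocFree hE
  haveI := hEc.1
  have hfree := ((LocFree8.isFinLocFree_iff_fp_free E).1 hE).2
  refine ⟨isFlatOver_push _ _ fun z => isFlatOverAt_of_free _ z, fun x hx => ?_⟩
  by_cases hr : x ∈ Set.range J.subschemeι
  · obtain ⟨z, rfl⟩ := hr
    have hz : IsClosed ({z} : Set J.subscheme) := by
      have := hx.preimage J.subschemeι.continuous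
      rwa [show (J.subschemeι : _ → X) ⁻¹' {J.subschemeι z} = {z} from Set.ext fun w =>
        ⟨fun h => J.subschemeι.isClosedEmbedding.injective h, fun h => congrArg (J.subschemeι : _ → X) h⟩] at this
    rw [depth_fibMod_push J.subschemeι _ hEc z]
    refine depth_fibMod_of_free _ z E hEc 2 ?_
    rw [← depth_fiberStalk_structure]
    exact hdepth0 z (isClosed_asFiber _ hz)
  · haveI : Subsingleton (((Scheme.Modules.pushforward J.subschemeι).obj E).presheaf.stalk x) :=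
      QCoh.stalk_subsingleton_of_notMem fun h => hr (QCoh.support_pushforward_subset_range _ _ h)
    rw [Depth.depth_eq_top_of_subsingleton]
    exact le_top

include A hamp hL in
/-- Bundles on the completion along an ample divisor with flat fibre depth two algebraize. -/
theorem exists_bundle_of_fibre_depth [Flat (X ↘ Spec (CommRingCat.of A))]
    (hdepth : ∀ x : X, IsClosed ({x} : Set X) →
      (2 : ℕ∞) ≤ LocCoh.depth (X.presheaf.stalk x) (FibMod (X ↘ Spec (CommRingCat.of A)) (Coh.structureModule X) x))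
    (hY : ∀ {E : ((𝓘 ^ (0 + 1)).subscheme).Modules}, FlatMod.IsFinLocFree E →
      FlatMod.IsFlatOver (X ↘ Spec (CommRingCat.of A))
        ((Scheme.Modules.pushforward (𝓘 ^ (0 + 1)).subschemeι).obj E) ∧
      ∀ x : X, IsClosed ({x} : Set X) → (2 : ℕ∞) ≤ LocCoh.depth (X.presheaf.stalk x)
        (FibMod (X ↘ Spec (CommRingCat.of A)) ((Scheme.Modules.pushforward (𝓘 ^ (0 + 1)).subschemeι).obj E) x))
    (𝔐 : FSch.ModSys (FSch.completionAlong X 𝓘)) (h𝔐 : LefX.LevelwiseFinLocFree 𝔐) :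
    ∃ (U : X.Opens) (E : (U : Scheme.{u}).Modules), (𝓘.support : Set X) ⊆ (U : Set X) ∧
      FlatMod.IsFinLocFree E ∧ Nonempty (FSch.completionMod 𝓘 ((Scheme.Modules.pushforward U.ι).obj E) ≅ 𝔐) := by
  haveI := isNoetherian_of_proper A (X := X)
  have hI := LefAmp7.isInvertible_idealMod_of_inverse hamp.1 hL
  refine exists_bundle 𝓘 hI 𝔐 h𝔐 (A := A) (fun M hM => pos_of_ample A hamp 𝓘 hI hL hM) (fun ν r => ?_)
    (van_of_fibre_depth A hamp 𝓘 hI hL (isCoh_lvl 𝓘 𝔐 h𝔐 0) (hY (h𝔐 0)).1 (hY (h𝔐 0)).2)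
  let P := ((twist 𝓘 hI).T (-(ν : ℤ))).obj (FlatMod.freeMod X r)
  have hP : FlatMod.IsFinLocFree P := OX.isFinLocFree_tensor (OX.isFinLocFree_freeMod X r)
    (Euler.isFinLocFree_of_isInvertible (isInvertible_rep _))
  have hPc := Euler.isCoh_of_isFinLocFree hP
  haveI := hPc.1
  have hfree := ((LocFree8.isFinLocFree_iff_fp_free P).1 hP).2
  refine ⟨mono_μ_of_locFree 𝓘 hI hP, van_of_fibre_depth A hamp 𝓘 hI hL hPc (fun x => isFlatOverAt_of_free _ x)
    (fun x hx => depth_fibMod_of_free _ x P hPc 2 (hdepth x hx)), ?_⟩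
  obtain ⟨e⟩ := nonempty_coker_μk_iso 𝓘 hI (P := P)
  obtain ⟨h1, h2⟩ := hY (OX.isFinLocFree_pullback (𝓘 ^ (0 + 1)).subschemeι hP)
  have hcok : Coh.IsCoh (cokernel (μk (twist 𝓘 hI) P (0 + 1))) :=
    QCoh.isCoh_cokernel _ ((twist 𝓘 hI).coh _ _ hPc) hPc
  refine van_of_fibre_depth A hamp 𝓘 hI hL hcok (fun x => (FlatFP.isFlatOverAt_congr _ e x).2 (h1 x))
    fun x hx => (h2 x hx).trans (le_of_eq ?_)
  refine Depth17.idealDepth_congr _ (Submodule.Quotient.equiv _ _ ((OX.stalk x).mapIso e.symm).toLinearEquiv ?_)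
  rw [Submodule.map_smul'', Submodule.map_top, LinearEquiv.range]

end GrothLib.RelVan7
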