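import Groth.Agent.Lib.LeffAmp7.Data
import Groth.Agent.Lib.LefAmp7.Hom

/-!
# Powers of an invertible ideal regular on a module
-/

set_option autoImplicit false
set_option linter.style.haveILetI false

universe u

open CategoryTheory CategoryTheory.Limits AlgebraicGeometry

noncomputable section

namespace GrothLib.RelVan7

open GrothLib.QCoh (stalkLin)
open GrothLib.OmegaBC (sval)

variable {X : Scheme.{u}}

theorem st_eq_span (J : X.IdealSheafData) {x : X} {t : (ClSub.idealMod J).presheaf.stalk x}
    (ht : Ref1.Gen (ClSub.idealMod J) x t) : Goodman.st J x = Ideal.span {sval J x t} := by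
  refine le_antisymm ?_ ((Ideal.span_singleton_le_iff_mem _).2 (LinearMap.mem_range_self _ t))
  rintro _ ⟨w, rfl⟩
  obtain ⟨c, rfl⟩ := ht.2 w
  exact Ideal.mem_span_singleton'.2 ⟨c, ((sval J x).map_smul c t).symm⟩

/-- Injectivity of `F ⊗ J → F ⊗ O` on a stalk is regularity of an equation. -/
theorem injective_stalk_tensor_iff (J : X.IdealSheafData) (F : X.Modules) {x : X}
    {t : (ClSub.idealMod J).presheaf.stalk x} (ht : Ref1.Gen (ClSub.idealMod J) x t) :
    Function.Injective (stalkLin (((DCoh.tensorBi (X := X)).obj F).map (ClSub.idealModι J)) x) ↔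
      ∀ v : F.presheaf.stalk x, sval J x t • v = 0 → v = 0 := by
  have hb := TensorGen.bijective_tmulStalk F _ ht
  have hu := TensorGen.bijective_tmulStalk F _ (Ref1.gen_unitStalk (X := X) x)
  have hι : stalkLin (ClSub.idealModι J) x t = sval J x t • HomSh.unitStalk x 1 := by
    rw [Goodman.stalkLin_idealModι, ← map_smul, smul_eq_mul, mul_one]
  have key : ∀ v, stalkLin (((DCoh.tensorBi (X := X)).obj F).map (ClSub.idealModι J)) x
      (Ref1.tmulStalk F (ClSub.idealMod J) x v t) =
      Ref1.tmulStalk F (Coh.structureModule X) x (sval J x t • v) (HomSh.unitStalk x 1) := fun v => by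
    refine (Goodman.stalkLin_tensor_tmul F (ClSub.idealModι J) x v t).trans ?_
    rw [hι, map_smul, map_smul, LinearMap.smul_apply]
  constructor
  · intro h v hv
    have h0 : Ref1.tmulStalk F (ClSub.idealMod J) x v t = Ref1.tmulStalk F (ClSub.idealMod J) x 0 t := by
      refine h ((key v).trans ?_)
      rw [key 0, hv, smul_zero]
    exact hb.1 h0
  · intro h a b hab
    obtain ⟨v, rfl⟩ := hb.2 a
    obtain ⟨w, rfl⟩ := hb.2 b
    have h1 := (key v).symm.trans (hab.trans (key w))
    have h2 := hu.1 h1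
    rw [sub_eq_zero.1 (h (v - w) (by rw [smul_sub, h2, sub_self]))]

theorem mono_swap_iff (J : X.IdealSheafData) (F : X.Modules) :
    Mono ((DCoh.tensorBi.map (ClSub.idealModι J)).app F) ↔
      Mono (((DCoh.tensorBi (X := X)).obj F).map (ClSub.idealModι J)) := by
  have hn := ((OX.tensorBraiding (X := X)).app F).hom.naturality (ClSub.idealModι J)
  refine Iff.trans ?_ (MorphismProperty.monomorphisms.iff _)
  refine Iff.trans (MorphismProperty.monomorphisms.iff _).symm ?_
  exact ((MorphismProperty.monomorphisms X.Modules).arrow_mk_iso_iff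
    (Arrow.isoMk (((OX.tensorBraiding (X := X)).app F).app (ClSub.idealMod J))
      (((OX.tensorBraiding (X := X)).app F).app (Coh.structureModule X)) hn.symm))

/-- A power of an invertible ideal regular on a module is regular on it. -/
theorem mono_pow (𝓘 : X.IdealSheafData) (hI : PicF.IsInvertible (ClSub.idealMod 𝓘)) (F : X.Modules)
    (hreg : Mono ((DCoh.tensorBi.map (ClSub.idealModι 𝓘)).app F)) (m : ℕ) :
    Mono ((DCoh.tensorBi.map (ClSub.idealModι (𝓘 ^ (m + 1)))).app F) := by
  rw [mono_swap_iff] at hreg ⊢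
  obtain ⟨hP, -⟩ := ArSurf29.cls_idealMod_pow (IdealModSec.isEffCartier_of_isInvertible hI) (m + 1)
  refine (OX.mono_iff _).2 fun x => (ModuleCat.mono_iff_injective _).2 ?_
  obtain ⟨t, ht⟩ := Ref1.exists_gen_of_isInvertible hI x
  obtain ⟨s, hs⟩ := Ref1.exists_gen_of_isInvertible hP x
  have hb := (injective_stalk_tensor_iff 𝓘 F ht).1
    (@QCoh.stalkLin_injective _ _ _ _ hreg x)
  refine (injective_stalk_tensor_iff (𝓘 ^ (m + 1)) F hs).2 fun v hv => ?_
  obtain ⟨c, hc⟩ : ∃ c, c * sval (𝓘 ^ (m + 1)) x s = sval 𝓘 x t ^ (m + 1) := by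
    refine Ideal.mem_span_singleton'.1 ?_
    rw [← st_eq_span _ hs, Goodman.st_pow, st_eq_span _ ht]
    exact Ideal.pow_mem_pow (Ideal.mem_span_singleton_self _) _
  have hp : sval 𝓘 x t ^ (m + 1) • v = 0 := by rw [← hc, mul_smul, hv, smul_zero]
  clear hc hv c hs s hP
  induction m with
  | zero => exact hb v (by simpa using hp)
  | succ m ih =>
    refine ih ?_
    apply hb
    rw [← mul_smul, ← pow_succ']
    exact hp

end GrothLib.RelVan7
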