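import Groth.Agent.Lib.RelVan7.Main
import Groth.Agent.Lib.RelVan7.Fibre
import Groth.Agent.Lib.RelVan7.Reg
import Groth.Agent.Lib.Cohom.LinearLES
import Groth.Agent.Lib.LefEt7.Sec
import Groth.Agent.Lib.ConnH0.Basic

/-!
# Bijectivity to the limit of the cohomology of the thickenings
-/

set_option autoImplicit false
set_option linter.style.haveILetI false

universe u

open CategoryTheory CategoryTheory.Limits AlgebraicGeometry

noncomputable section

namespace GrothLib.RelVan7

variable (A : Type u) [CommRing A] {X : Scheme.{u}} [X.Over (Spec (CommRingCat.of A))]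

/-- A family of short exact sequences whose first terms eventually have no low cohomology. -/
theorem bijective_to_limit {B : X.Modules} (K Q : ℕ → X.Modules) (ι : ∀ m, K m ⟶ B) (π : ∀ m, B ⟶ Q m)
    (q : ∀ m, Q (m + 1) ⟶ Q m) (hw : ∀ m, ι m ≫ π m = 0) (hS : ∀ m, (ShortComplex.mk _ _ (hw m)).ShortExact)
    (hq : ∀ m, π (m + 1) ≫ q m = π m) (n m₀ : ℕ)
    (hv : ∀ m, m₀ ≤ m → ∀ i, i ≤ n → Subsingleton (Coh.HH X (K m) i)) (i : ℕ) :
    (i ≤ n → ∀ x : Coh.HH X B i, (∀ m : ℕ, Cohom.hhMap A (π m) i x = 0) → x = 0) ∧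
    (i < n → ∀ y : (∀ m : ℕ, Coh.HH X (Q m) i), (∀ m : ℕ, Cohom.hhMap A (q m) i (y (m + 1)) = y m) →
      ∃ x : Coh.HH X B i, ∀ m : ℕ, Cohom.hhMap A (π m) i x = y m) := by
  have inj : i ≤ n → ∀ m, m₀ ≤ m → ∀ x, Cohom.hhMap A (π m) i x = 0 → x = 0 := fun hi m hm x hx => by
    obtain ⟨z, rfl⟩ := (Cohom.exact₂ (A := A) (hS m) i x).1 hx
    rw [@Subsingleton.elim _ (hv m hm i hi) z 0, map_zero]
  refine ⟨fun hi x hx => inj hi m₀ le_rfl x (hx m₀), fun hi y hy => ?_⟩
  have surj : ∀ m, m₀ ≤ m → ∀ z, ∃ x, Cohom.hhMap A (π m) i x = z := fun m hm z =>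
    (Cohom.exact₃ (A := A) (hS m) i z).1 (@Subsingleton.elim _ (hv m hm (i + 1) hi) _ _)
  have hcomp : ∀ m x, Cohom.hhMap A (q m) i (Cohom.hhMap A (π (m + 1)) i x) = Cohom.hhMap A (π m) i x := by
    intro m x
    show Sheaf.H.map ((QCoh.toAbFun X).map (q m)) i (Sheaf.H.map ((QCoh.toAbFun X).map (π (m + 1))) i x) =
      Sheaf.H.map ((QCoh.toAbFun X).map (π m)) i x
    rw [← Sheaf.H.map_comp_apply, ← Functor.map_comp, hq]
  have down : ∀ j m x, Cohom.hhMap A (π (m + j)) i x = y (m + j) → Cohom.hhMap A (π m) i x = y m := by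
    intro j
    induction j with
    | zero => exact fun m x h => h
    | succ j ih =>
      intro m x h
      refine ih m x ?_
      rw [← hcomp, ← hy]
      exact congrArg _ h
  obtain ⟨x, hx⟩ := surj m₀ le_rfl (y m₀)
  refine ⟨x, fun m => ?_⟩
  obtain ⟨x', hx'⟩ := surj (m₀ + m) (Nat.le_add_right _ _) (y (m₀ + m))
  have h1 := down m m₀ x' hx'
  have h2 : x' = x := sub_eq_zero.1 (inj hi.le m₀ le_rfl _ (by rw [map_sub, h1, hx, sub_self]))
  subst h2
  obtain ⟨j, hj⟩ : ∃ j, m₀ + m = m + j := ⟨m₀, add_comm _ _⟩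
  rw [hj] at hx'
  exact down j m x' hx'

variable [IsNoetherianRing A] [IsProper (X ↘ Spec (CommRingCat.of A))]

include A in
/-- The powers of an ample invertible ideal kill the low cohomology of a flat module. -/
theorem eventually_vanish_idealPow {𝓘 : X.IdealSheafData} {L : X.Modules}
    (hL : ClSub.IsInverseOf L (ClSub.idealMod 𝓘)) (hamp : CohB1.IsAmple L) {F : X.Modules} (hF : Coh.IsCoh F)
    (hflat : FlatMod.IsFlatOver (X ↘ Spec (CommRingCat.of A)) F) (n : ℕ)
    (hd : ∀ x : X, IsClosed ({x} : Set X) →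
      (n : ℕ∞) < LocCoh.depth (X.presheaf.stalk x) (FibMod (X ↘ Spec (CommRingCat.of A)) F x)) :
    ∃ m₀ : ℕ, ∀ m : ℕ, m₀ ≤ m → ∀ i : ℕ, i ≤ n →
      Subsingleton (Coh.HH X ((DCoh.tensorBi.obj (ClSub.idealMod (𝓘 ^ (m + 1)))).obj F) i) := by
  haveI := isNoetherian_of_proper A (X := X)
  have hI := LefAmp7.isInvertible_idealMod_of_inverse hamp.1 hL
  obtain ⟨m₀, hm₀⟩ := eventually_vanish A hamp hL hF hflat n hd
  refine ⟨m₀, fun m hm i hi => ?_⟩
  obtain ⟨h, hcls⟩ := ArSurf29.cls_idealMod_pow (IdealModSec.isEffCartier_of_isInvertible hI) (m + 1)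
  obtain ⟨p⟩ := (Cube.clsMod_eq_iff h (Ample.isInvertible_tensorPow hI (m + 1))).1
    (by rw [hcls, Cube.clsMod_tensorPow hI])
  let j : (DCoh.tensorBi.obj (ClSub.idealMod (𝓘 ^ (m + 1)))).obj F ≅
      CohB1.tensorMod F (CohB1.tensorPow (ClSub.idealMod 𝓘) (m + 1)) :=
    ((OX.tensorBraiding (X := X)).app F).app _ ≪≫ ((DCoh.tensorBi (X := X)).obj F).mapIso p
  exact CMReg.subsingleton_of_iso j.symm (hm₀ (m + 1) (by omega) i hi)

omit [IsNoetherianRing A] [IsProper (X ↘ Spec (CommRingCat.of A))] [X.Over (Spec (CommRingCat.of A))] in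
/-- Tensoring the sequence of a power of the ideal with a module on which it is regular. -/
theorem shortExact_tensor (J : X.IdealSheafData) (F : X.Modules)
    (h : Mono ((DCoh.tensorBi.map (ClSub.idealModι J)).app F)) :
    (ShortComplex.mk ((DCoh.tensorBi.map (ClSub.idealModι J)).app F)
      ((DCoh.tensorBi.map (ClSub.toSubscheme J)).app F) (by
        have : ((DCoh.tensorBi (X := X)).flip.obj F).Additive :=
          Functor.additive_of_iso ((OX.tensorBraiding (X := X)).app F).symm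
        refine (((DCoh.tensorBi (X := X)).flip.obj F).map_comp (ClSub.idealModι J) (ClSub.toSubscheme J)).symm.trans ?_
        rw [show ClSub.idealModι J ≫ ClSub.toSubscheme J = 0 from kernel.condition _, Functor.map_zero])).ShortExact := by
  have hS := ConnH0.shortExact_ideal J
  let T := (DCoh.tensorBi (X := X)).flip.obj F
  have : T.Additive := Functor.additive_of_iso ((OX.tensorBraiding (X := X)).app F).symm
  have : PreservesColimitsOfSize.{0, 0} T :=
    @preservesColimitsOfSize_shrink _ _ _ _ _ (OX.preservesColimitsOfSize_tensorBi_flip_obj F)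
  have : PreservesFiniteColimits T := PreservesColimitsOfSize.preservesFiniteColimits T
  haveI := hS.epi_g
  haveI : Mono (T.map (ClSub.idealModι J)) := h
  exact
    { exact := hS.exact.map_of_epi_of_preservesCokernel T inferInstance inferInstance
      mono_f := h
      epi_g := inferInstanceAs (Epi (T.map (ClSub.toSubscheme J))) }

end GrothLib.RelVan7
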