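import Groth.Agent.Lib.FlatOff.Depth
import Groth.Agent.Lib.DepthAlong.Smooth
import Groth.Agent.Lib.Faltings.Transfer
import Groth.Agent.Lib.HB26.MCM
import Groth.Agent.Lib.CMFree.Regular
import Groth.Agent.Lib.CMFree.FiniteFlat
import Mathlib.RingTheory.Flat.Equalizer
import Mathlib.RingTheory.Finiteness.Nakayama

/-!
# Fibre depth along kernels, and freeness from fibre depth
-/

set_option autoImplicit false
set_option linter.style.haveILetI false

universe u

open CategoryTheory TensorProduct IsLocalRing Function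

noncomputable section

namespace GrothLib.RelVan7

section Algebra

variable {A O : Type u} [CommRing A] [IsLocalRing A] [CommRing O] [Algebra A O]

/-- The extended maximal ideal. -/
abbrev fib (A O : Type u) [CommRing A] [IsLocalRing A] [CommRing O] [Algebra A O] : Ideal O :=
  (maximalIdeal A).map (algebraMap A O)

variable {K G F : Type u} [AddCommGroup K] [Module O K] [Module A K] [IsScalarTower A O K]
  [AddCommGroup G] [Module O G] [Module A G] [IsScalarTower A O G]
  [AddCommGroup F] [Module O F] [Module A F] [IsScalarTower A O F]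
  (f : K →ₗ[O] G) (g : G →ₗ[O] F) (hf : Injective f) (hg : Surjective g) (hfg : Function.Exact f g)

include hf hg hfg in
omit [IsLocalRing A] in
theorem flat_kernel [Module.Flat A G] [Module.Flat A F] : Module.Flat A K := by
  rw [Module.Flat.iff_rTensor_preserves_injective_linearMap]
  intro N P _ _ _ _ j hj
  let f' := f.restrictScalars A
  have h1 : Injective (f'.lTensor N) :=
    LinearMap.lTensor_injective_of_exact_of_flat (g.restrictScalars A) hg f' hf hfg N
  have h2 : Injective (j.rTensor G) :=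
    Module.Flat.rTensor_preserves_injective_linearMap _ hj
  have h3 : Injective ((f'.lTensor P).comp (j.rTensor K)) := by
    rw [LinearMap.lTensor_comp_rTensor, ← LinearMap.rTensor_comp_lTensor]
    exact h2.comp h1
  exact Injective.of_comp h3

include hf hg hfg in
/-- With flat cokernel the extended maximal ideal cuts the submodule in its own multiple. -/
theorem mem_smul_top_of_map_mem [Module.Flat A F] {x : K} (hx : f x ∈ fib A O • (⊤ : Submodule O G)) :
    x ∈ fib A O • (⊤ : Submodule O K) := by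
  have h1 : Injective ((f.restrictScalars A).lTensor (A ⧸ maximalIdeal A)) :=
    LinearMap.lTensor_injective_of_exact_of_flat (g.restrictScalars A) hg (f.restrictScalars A) hf hfg _
  have hres : ∀ (N : Type u) [AddCommGroup N] [Module O N] [Module A N] [IsScalarTower A O N],
      ((fib A O • (⊤ : Submodule O N)).restrictScalars A) = maximalIdeal A • (⊤ : Submodule A N) := fun N _ _ _ _ => by
    rw [Ideal.smul_restrictScalars, Submodule.restrictScalars_top]
  have hx' : f x ∈ maximalIdeal A • (⊤ : Submodule A G) := by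
    rw [← hres]; exact hx
  have hz : ((f.restrictScalars A).lTensor (A ⧸ maximalIdeal A)) (Submodule.Quotient.mk 1 ⊗ₜ x) = 0 := by
    rw [LinearMap.lTensor_tmul]
    apply (quotTensorEquivQuotSMul G (maximalIdeal A)).injective
    rw [map_zero]
    refine (quotTensorEquivQuotSMul_mk_tmul (maximalIdeal A) 1 (f x)).trans ?_
    rw [one_smul]
    exact (Submodule.Quotient.mk_eq_zero _).2 hx'
  have h0 : (Submodule.Quotient.mk (1 : A) : A ⧸ maximalIdeal A) ⊗ₜ[A] x = 0 := h1 (hz.trans (map_zero _).symm)
  have h3 : x ∈ maximalIdeal A • (⊤ : Submodule A K) := by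
    have := congrArg (quotTensorEquivQuotSMul K (maximalIdeal A)) h0
    rw [map_zero] at this
    have h4 := (quotTensorEquivQuotSMul_mk_tmul (maximalIdeal A) 1 x).symm.trans this
    rw [one_smul] at h4
    exact (Submodule.Quotient.mk_eq_zero _).1 h4
  rw [← hres] at h3
  exact h3

/-- The induced maps of the quotients by the extended maximal ideal. -/
abbrev bar (f : K →ₗ[O] G) : K ⧸ (fib A O • ⊤ : Submodule O K) →ₗ[O] G ⧸ (fib A O • ⊤ : Submodule O G) :=
  Submodule.mapQ _ _ f (Submodule.smul_top_le_comap_smul_top _ f)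

include hf hg hfg in
theorem bar_ses [Module.Flat A F] :
    Injective (bar (A := A) f) ∧ Surjective (bar (A := A) g) ∧ Function.Exact (bar (A := A) f) (bar (A := A) g) := by
  refine ⟨(injective_iff_map_eq_zero _).2 fun z hz => ?_, fun z => ?_, fun z => ⟨fun hz => ?_, ?_⟩⟩
  · obtain ⟨x, rfl⟩ := Submodule.Quotient.mk_surjective _ z
    rw [Submodule.mapQ_apply, Submodule.Quotient.mk_eq_zero] at hz
    exact (Submodule.Quotient.mk_eq_zero _).2 (mem_smul_top_of_map_mem f g hf hg hfg hz)
  · obtain ⟨y, rfl⟩ := Submodule.Quotient.mk_surjective _ z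
    obtain ⟨w, rfl⟩ := hg y
    exact ⟨Submodule.Quotient.mk w, rfl⟩
  · obtain ⟨w, rfl⟩ := Submodule.Quotient.mk_surjective _ z
    rw [Submodule.mapQ_apply, Submodule.Quotient.mk_eq_zero] at hz
    have hmap : (fib A O • (⊤ : Submodule O F)) = (fib A O • (⊤ : Submodule O G)).map g := by
      rw [Submodule.map_smul'', Submodule.map_top, LinearMap.range_eq_top.2 hg]
    rw [hmap] at hz
    obtain ⟨w', hw', he⟩ := hz
    obtain ⟨x, hx⟩ := (hfg (w - w')).1 (by rw [map_sub, he, sub_self])
    refine ⟨Submodule.Quotient.mk x, ?_⟩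
    rw [Submodule.mapQ_apply, hx, Submodule.Quotient.mk_sub, (Submodule.Quotient.mk_eq_zero _).2 hw', sub_zero]
  · rintro ⟨y, rfl⟩
    obtain ⟨x, rfl⟩ := Submodule.Quotient.mk_surjective _ y
    rw [Submodule.mapQ_apply, Submodule.mapQ_apply, hfg.apply_apply_eq_zero, Submodule.Quotient.mk_zero]

end Algebra

section Depth

variable {O : Type u} [CommRing O] [IsNoetherianRing O]

theorem le_idealDepth_left (J : Ideal O) (n : ℕ) {X Y Z : Type u} [AddCommGroup X] [Module O X]
    [AddCommGroup Y] [Module O Y] [AddCommGroup Z] [Module O Z] [Module.Finite O X] [Module.Finite O Y]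
    [Module.Finite O Z] (f : X →ₗ[O] Y) (g : Y →ₗ[O] Z) (hf : Injective f) (hg : Surjective g)
    (hex : Function.Exact f g) (hY : ((n + 1 : ℕ) : ℕ∞) ≤ LocCoh.idealDepth J Y)
    (hZ : (n : ℕ∞) ≤ LocCoh.idealDepth J Z) : ((n + 1 : ℕ) : ℕ∞) ≤ LocCoh.idealDepth J X := by
  rw [GrothLib.Depth.le_idealDepth_iff_ext] at hY hZ ⊢
  intro i hi
  let S : ShortComplex (ModuleCat.{u} O) := ShortComplex.mk (ModuleCat.ofHom f) (ModuleCat.ofHom g)
    (ModuleCat.hom_ext (LinearMap.ext fun z => hex.apply_apply_eq_zero z))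
  have hS : S.ShortExact :=
    { exact := (ShortComplex.moduleCat_exact_iff _).2 fun v hv => (hex v).1 hv
      mono_f := (ModuleCat.mono_iff_injective _).2 hf
      epi_g := (ModuleCat.epi_iff_surjective _).2 hg }
  refine subsingleton_of_forall_eq 0 fun e => ?_
  cases i with
  | zero =>
    haveI := hS.mono_f
    obtain ⟨φ, rfl⟩ := (Abelian.Ext.mk₀_bijective _ _).2 e
    have h0 := (hY 0 hi).elim ((Abelian.Ext.mk₀ φ).comp (Abelian.Ext.mk₀ S.f) (add_zero 0)) 0
    rw [Abelian.Ext.mk₀_comp_mk₀, Abelian.Ext.mk₀_eq_zero_iff] at h0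
    rw [(cancel_mono S.f).1 (h0.trans Limits.zero_comp.symm), Abelian.Ext.mk₀_zero]
  | succ i =>
    obtain ⟨x, hx⟩ := Abelian.Ext.covariant_sequence_exact₁ (ModuleCat.of O (O ⧸ J)) hS e
      (@Subsingleton.elim _ (hY (i + 1) hi) _ _) rfl
    rw [← hx, @Subsingleton.elim _ (hZ i (by omega)) x 0, Abelian.Ext.zero_comp]

end Depth

section Regular

variable {A O : Type u} [CommRing A] [IsLocalRing A] [CommRing O] [IsNoetherianRing O] [IsLocalRing O]
  [Algebra A O] [IsRegularLocalRing (O ⧸ fib A O)] {D : ℕ}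

omit [IsNoetherianRing O] in
theorem depth_fibRing (hD : ringKrullDim (O ⧸ fib A O) = D) :
    (D : ℕ∞) ≤ LocCoh.depth (O ⧸ fib A O) (O ⧸ fib A O) := by
  obtain ⟨rs, h1, h2, h3⟩ := GrothLib.CMFree.exists_weaklyRegular_of_isRegularLocalRing (O ⧸ fib A O)
  haveI := GrothLib.CMFree.isCohenMacaulayLocalRing_of_weaklyRegular _ rs h1 h2 h3.ge
  have h := LocCoh.IsCohenMacaulayLocalRing.supportDim_eq_depth (R := O ⧸ fib A O)
  rw [Module.supportDim_self_eq_ringKrullDim, hD] at h
  exact le_of_eq (WithBot.coe_injective h)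

variable (M : Type u) [AddCommGroup M] [Module O M] [Module.Finite O M]

theorem depth_bar_eq : LocCoh.depth O (M ⧸ (fib A O • ⊤ : Submodule O M)) =
    LocCoh.depth (O ⧸ fib A O) (M ⧸ (fib A O • ⊤ : Submodule O M)) := by
  haveI : Module.Finite (O ⧸ fib A O) (M ⧸ (fib A O • ⊤ : Submodule O M)) :=
    Module.Finite.of_restrictScalars_finite O _ _
  exact Faltings.depth_eq_of_surjective Ideal.Quotient.mk_surjective _

theorem le_depth_bar_of_free [Module.Free O M] (hD : ringKrullDim (O ⧸ fib A O) = D) :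
    (D : ℕ∞) ≤ LocCoh.depth O (M ⧸ (fib A O • ⊤ : Submodule O M)) := by
  rw [depth_bar_eq]
  haveI : Module.Finite (O ⧸ fib A O) (M ⧸ (fib A O • ⊤ : Submodule O M)) :=
    Module.Finite.of_restrictScalars_finite O _ _
  haveI : Module.Free (O ⧸ fib A O) (M ⧸ (fib A O • ⊤ : Submodule O M)) :=
    Module.Free.of_equiv (LinearEquiv.extendScalarsOfSurjective (S := O ⧸ fib A O) Ideal.Quotient.mk_surjective
      (quotTensorEquivQuotSMul M (fib A O)))
  exact DepthAlong.le_depth_of_free D (depth_fibRing hD)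

/-- Freeness from the fibre. -/
theorem free_of_fibre [Module A M] [IsScalarTower A O M] [Module.Flat A M]
    (hD : ringKrullDim (O ⧸ fib A O) = D)
    (h : (D : ℕ∞) ≤ LocCoh.depth O (M ⧸ (fib A O • ⊤ : Submodule O M))) : Module.Free O M := by
  haveI : Module.Finite (O ⧸ fib A O) (M ⧸ (fib A O • ⊤ : Submodule O M)) :=
    Module.Finite.of_restrictScalars_finite O _ _
  rw [depth_bar_eq] at h
  haveI := HB26.free_of_depth_ge_dim (O ⧸ fib A O) (M ⧸ (fib A O • ⊤ : Submodule O M)) D hD h
  let b := Module.Free.chooseBasis (O ⧸ fib A O) (M ⧸ (fib A O • ⊤ : Submodule O M))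
  haveI := Fintype.ofFinite (Module.Free.ChooseBasisIndex (O ⧸ fib A O) (M ⧸ (fib A O • ⊤ : Submodule O M)))
  choose m hm using fun i => Submodule.Quotient.mk_surjective _ (b i)
  let φ : (Module.Free.ChooseBasisIndex (O ⧸ fib A O) (M ⧸ (fib A O • ⊤ : Submodule O M)) → O) →ₗ[O] M :=
    Fintype.linearCombination O m
  have hle : fib A O ≤ maximalIdeal O :=
    IsLocalRing.le_maximalIdeal fun h =>
      not_subsingleton (O ⧸ fib A O) (Ideal.Quotient.subsingleton_iff.2 h)
  have hjac : fib A O ≤ Ideal.jacobson ⊥ := hle.trans (maximalIdeal_le_jacobson _)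
  have hφ : Surjective φ := by
    rw [← LinearMap.range_eq_top]
    refine eq_top_iff.2 (Submodule.le_of_le_smul_of_le_jacobson_bot Module.Finite.fg_top hjac fun y _ => ?_)
    obtain ⟨c, hc⟩ : ∃ c : _ → O, Submodule.Quotient.mk (φ c) =
        (Submodule.Quotient.mk y : M ⧸ (fib A O • ⊤ : Submodule O M)) := by
      choose c hc using fun i => Ideal.Quotient.mk_surjective (b.repr (Submodule.Quotient.mk y) i)
      refine ⟨c, ?_⟩
      rw [Fintype.linearCombination_apply, ← Submodule.mkQ_apply, map_sum]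
      refine Eq.trans ?_ (b.sum_repr _)
      refine Finset.sum_congr rfl fun i _ => ?_
      rw [map_smul, ← hc, Submodule.mkQ_apply, hm]
      rfl
    have h1 : y - φ c ∈ (fib A O • ⊤ : Submodule O M) := (Submodule.Quotient.eq _).1 hc.symm
    have : y = φ c + (y - φ c) := by abel
    rw [this]
    exact Submodule.add_mem_sup ⟨c, rfl⟩ h1
  have hker : LinearMap.ker φ = ⊥ := by
    refine Submodule.eq_bot_of_le_smul_of_le_jacobson_bot _ _ (IsNoetherian.noetherian _) ?_ hjac
    intro c hc
    have hc' : φ c = 0 := hc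
    have hmem : c ∈ fib A O • (⊤ : Submodule O _) := by
      have h0 : ∑ i, (Ideal.Quotient.mk (fib A O) (c i)) • b i = 0 := by
        have h2 := congrArg (Submodule.Quotient.mk (p := (fib A O • ⊤ : Submodule O M))) hc'
        rw [Fintype.linearCombination_apply, ← Submodule.mkQ_apply, map_sum, Submodule.Quotient.mk_zero] at h2
        refine Eq.trans (Finset.sum_congr rfl fun i _ => ?_) h2
        rw [map_smul, Submodule.mkQ_apply, hm]
        rfl
      have h3 := Fintype.linearIndependent_iff.1 b.linearIndependent _ h0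
      classical
      have : c = ∑ i, c i • (Pi.single i (1 : O) : _ → O) := by
        funext j
        simp [Pi.single_apply, Finset.sum_apply]
      rw [this]
      exact Submodule.sum_mem _ fun i _ =>
        Submodule.smul_mem_smul (Ideal.Quotient.eq_zero_iff_mem.1 (h3 i)) trivial
    exact mem_smul_top_of_map_mem (A := A) (LinearMap.ker φ).subtype φ Subtype.coe_injective hφ
      (LinearMap.exact_subtype_ker_map φ) (x := ⟨c, hc⟩) hmem |> fun h => by
        rw [← Submodule.map_subtype_top (LinearMap.ker φ), ← Submodule.map_smul'']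
        exact ⟨_, h, rfl⟩
  exact Module.Free.of_equiv (LinearEquiv.ofBijective φ ⟨LinearMap.ker_eq_bot.1 hker, hφ⟩)

variable (A) in
/-- The fibre depth condition `≥ min (dim, e)`. -/
def Good (D e : ℕ) : Prop := ((min D e : ℕ) : ℕ∞) ≤ LocCoh.depth O (M ⧸ (fib A O • ⊤ : Submodule O M))

variable {M} {K G : Type u} [AddCommGroup K] [Module O K] [Module.Finite O K] [Module A K] [IsScalarTower A O K]
  [AddCommGroup G] [Module O G] [Module.Finite O G] [Module.Free O G] [Module A G] [IsScalarTower A O G]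
  [Module A M] [IsScalarTower A O M] [Module.Flat A M]
  (f : K →ₗ[O] G) (g : G →ₗ[O] M) (hf : Injective f) (hg : Surjective g) (hfg : Function.Exact f g)

include f g hf hg hfg in
theorem good_kernel (hD : ringKrullDim (O ⧸ fib A O) = D) {e : ℕ} (h : Good (O := O) A M D e) :
    Good (O := O) A K D (e + 1) := by
  obtain ⟨h1, h2, h3⟩ := bar_ses (A := A) f g hf hg hfg
  show ((min D (e + 1) : ℕ) : ℕ∞) ≤ _
  rcases Nat.eq_zero_or_pos (min D (e + 1)) with h0 | hpos
  · rw [h0]; exact zero_le
  obtain ⟨n, hn⟩ := Nat.exists_eq_add_of_le hpos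
  have hn' : min D (e + 1) = n + 1 := by omega
  rw [hn']
  refine le_idealDepth_left _ n _ _ h1 h2 h3 (le_trans ?_ (le_depth_bar_of_free (A := A) G hD)) (le_trans ?_ h)
  · exact_mod_cast (show n + 1 ≤ D by omega)
  · exact_mod_cast (show n ≤ min D e by omega)

end Regular

end GrothLib.RelVan7
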