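import Groth.Agent.Lib.RelVan7.Proj
import Groth.Agent.Lib.RelVan7.Transfer
import Groth.Agent.Lib.DecSh20.Embed
import Groth.Agent.Lib.Snapper.PushEuler
import Groth.Agent.Lib.Regularity10.Transfer

/-!
# Vanishing of negative twists below the fibre depth, over a noetherian ring
-/

set_option autoImplicit false
set_option linter.style.haveILetI false
set_option maxHeartbeats 1000000

universe u

open CategoryTheory CategoryTheory.Limits AlgebraicGeometry IsLocalRing

noncomputable section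

namespace GrothLib.RelVan7

variable (A : Type u) [CommRing A] [IsNoetherianRing A] {X : Scheme.{u}} [X.Over (Spec (CommRingCat.of A))]
  [IsProper (X ↘ Spec (CommRingCat.of A))]

include A in
theorem isNoetherian_of_proper : IsNoetherian X := by
  haveI : IsLocallyNoetherian X := LocallyOfFiniteType.isLocallyNoetherian (X ↘ Spec (CommRingCat.of A))
  haveI : CompactSpace X := QuasiCompact.compactSpace_of_compactSpace (X ↘ Spec (CommRingCat.of A))
  exact ⟨⟩

include A in
theorem exists_embedding {L : X.Modules} (hL : CohB1.IsAmple L) :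
    ∃ (r n : ℕ) (i : X ⟶ CohB1.ProjSpace n A), 0 < r ∧ IsClosedImmersion i ∧
      i ≫ CohB1.ProjSpace.toSpec n A = X ↘ Spec (CommRingCat.of A) ∧
      Nonempty (CohB1.tensorPow L r ≅ (Scheme.Modules.pullback i).obj (Twist.twistProjSpace n A 1)) := by
  haveI := isNoetherian_of_proper A (X := X)
  haveI := hL.2.1
  obtain ⟨c, ⟨e⟩⟩ := Ample.exists_cocycle hL.1
  obtain ⟨c', ⟨e'⟩⟩ := Ample.exists_cocycle (Euler.isInvertible_structure (X := X))
  obtain ⟨n₀, hn₀⟩ := Ample.eventually_isRelVeryAmplePn (X ↘ Spec (CommRingCat.of A)) c c'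
    ((c.isAmple_iff e).mp hL).2
  obtain ⟨p⟩ := c.nonempty_tensorPow_iso_pow e (n₀ + 1)
  obtain ⟨m⟩ := (c.pow (n₀ + 1)).nonempty_tensorMod_iso_prod c' p e'
  obtain ⟨n, j, hj, hjb, ⟨φ⟩⟩ := hn₀ (n₀ + 1) n₀.le_succ m
  haveI := hj
  obtain ⟨ω, hω1, hω⟩ := ProjPic26.exists_isPullback_point (n := n) (Spec (CommRingCat.of A))
    (𝟙 (Spec (CommRingCat.of A)))
  haveI : IsIso ω := hω.isIso_fst_of_isIso
  let i : X ⟶ CohB1.ProjSpace n A := j ≫ inv ω
  have hib : i ≫ CohB1.ProjSpace.toSpec n A = X ↘ Spec (CommRingCat.of A) := by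
    have h2 : CohB1.ProjSpace.toSpec n A = ω ≫ CohB1.ProjSpaceOver.toBase n (Spec (CommRingCat.of A)) := by
      rw [hω.w, Category.comp_id]
    rw [h2]
    simp only [i, Category.assoc, IsIso.inv_hom_id_assoc]
    exact hjb
  haveI : IsProper (CohB1.ProjSpace.toSpec n A) := Chow.isProper_toSpec n A
  haveI : IsProper (i ≫ CohB1.ProjSpace.toSpec n A) := by rw [hib]; infer_instance
  haveI : IsProper i := IsProper.of_comp i (CohB1.ProjSpace.toSpec n A)
  haveI : IsImmersion i := inferInstance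
  have hi : IsClosedImmersion i := Chow.isClosedImmersion_of_isImmersion_of_isProper i
  obtain ⟨ψ⟩ := ProjCohom.nonempty_pullback_twistOver n (Spec (CommRingCat.of A)) 1 hω1
  refine ⟨n₀ + 1, n, i, n₀.succ_pos, hi, hib, ⟨?_⟩⟩
  exact (OX.tensorUnitLeftIso _).symm ≪≫ GrTilde.tensorModComm _ _ ≪≫ φ ≪≫
    (Scheme.Modules.pullbackCongr (show i ≫ ω = j by simp [i])).symm.app _ ≪≫
    ((Scheme.Modules.pullbackComp i ω).app _).symm ≪≫ (Scheme.Modules.pullback i).mapIso ψ

include A in
/-- The negative twists of a flat module have no cohomology up to its fibre depth. -/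
theorem eventually_vanish {L M : X.Modules} (hL : CohB1.IsAmple L) (hinv : ClSub.IsInverseOf L M)
    {F : X.Modules} (hF : Coh.IsCoh F) (hflat : FlatMod.IsFlatOver (X ↘ Spec (CommRingCat.of A)) F) (n : ℕ)
    (hd : ∀ x : X, IsClosed ({x} : Set X) →
      (n : ℕ∞) < LocCoh.depth (X.presheaf.stalk x) (FibMod (X ↘ Spec (CommRingCat.of A)) F x)) :
    ∃ m₀ : ℕ, ∀ m : ℕ, m₀ ≤ m → ∀ i : ℕ, i ≤ n →
      Subsingleton (Coh.HH X (CohB1.tensorMod F (CohB1.tensorPow M m)) i) := by
  haveI := isNoetherian_of_proper A (X := X)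
  obtain ⟨r, N, ι, hr, hc, hι, ⟨θ⟩⟩ := exists_embedding A hL
  haveI := hc
  let P := CohB1.ProjSpace N A
  haveI : IsProper (CohB1.ProjSpace.toSpec N A) := Chow.isProper_toSpec N A
  haveI : Smooth (CohB1.ProjSpace.toSpec N A) := CurveMult.smooth_toSpec N A
  haveI : IsLocallyNoetherian P := LocallyOfFiniteType.isLocallyNoetherian (CohB1.ProjSpace.toSpec N A)
  haveI : CompactSpace P := QuasiCompact.compactSpace_of_compactSpace (CohB1.ProjSpace.toSpec N A)
  haveI : IsNoetherian P := ⟨⟩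
  haveI : HasExt.{u} P.Modules := hasExt_of_enoughInjectives _
  have hM : PicF.IsInvertible M := by
    obtain ⟨c, ⟨e⟩⟩ := Ample.exists_cocycle hL.1
    obtain ⟨e'⟩ := NegTwist.nonempty_iso_inv c hinv e
    exact (NegTwist.inv c).isInvertible_of_iso e'
  let G : ℕ → X.Modules := fun ρ => CohB1.tensorMod F (CohB1.tensorPow M ρ)
  have hG : ∀ ρ, Coh.IsCoh (G ρ) := fun ρ => CMReg.isCoh_tensorMod hF (Ample.isInvertible_tensorPow hM ρ)
  have hflatι : FlatMod.IsFlatOver (ι ≫ CohB1.ProjSpace.toSpec N A) F := by rw [hι]; exact hflat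
  have hdι : ∀ x : X, IsClosed ({x} : Set X) →
      (n : ℕ∞) < LocCoh.depth (X.presheaf.stalk x) (FibMod (ι ≫ CohB1.ProjSpace.toSpec N A) F x) := by
    rw [hι]; exact hd
  have hPd : ∀ ρ, ∀ y : P, IsClosed ({y} : Set P) → (n : ℕ∞) < LocCoh.depth (P.presheaf.stalk y)
      (FibMod (CohB1.ProjSpace.toSpec N A) ((Scheme.Modules.pushforward ι).obj (G ρ)) y) := by
    intro ρ y hy
    by_cases hy' : y ∈ Set.range ι
    · obtain ⟨x, rfl⟩ := hy'
      rw [depth_fibMod_push ι _ (hG ρ) x, depth_fibMod_tensor _ F (Ample.isInvertible_tensorPow hM ρ) x]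
      refine hdι x ?_
      have := hy.preimage ι.continuous
      rwa [show (ι : X → P) ⁻¹' {ι x} = {x} from Set.ext fun z =>
        ⟨fun h => ι.isClosedEmbedding.injective h, fun h => congrArg (ι : X → P) h⟩] at this
    · haveI : Subsingleton (((Scheme.Modules.pushforward ι).obj (G ρ)).presheaf.stalk y) :=
        not_not.1 fun h => hy' (QCoh.support_pushforward_subset_range ι _ h)
      rw [Depth.depth_eq_top_of_subsingleton]
      exact WithTop.coe_lt_top n
  have key : ∀ ρ, ∃ q₀ : ℕ, ∀ q : ℕ, q₀ ≤ q → ∀ i : ℕ, i ≤ n →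
      Subsingleton (Coh.HH X (CohB1.tensorMod F (CohB1.tensorPow M (q * r + ρ))) i) := by
    intro ρ
    obtain ⟨q₀, hq₀⟩ := eventually_van (CohB1.ProjSpace.toSpec N A) (fibre_regular N A) (isInvertible_twist N A (-1))
      (line_vanish N A) (isAmple_twist N A) (isInverseOf_twist N A) (FormalExist7.isCoh_pushforward ι (hG ρ))
      (isFlatOver_push ι _ (isFlatOver_tensor _ hflatι (Ample.isInvertible_tensorPow hM ρ))) n (hPd ρ)
    refine ⟨q₀, fun q hq i hi => ?_⟩
    have hv := hq₀ q hq i hi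
    have htw := Ample.isInvertible_tensorPow (isInvertible_twist N A (-1)) q
    have hqr := Ample.isInvertible_tensorPow hM (q * r)
    obtain ⟨g⟩ : Nonempty (CohB1.tensorPow M (q * r) ≅
        (Scheme.Modules.pullback ι).obj (CohB1.tensorPow (Twist.twistProjSpace N A (-1)) q)) := by
      refine (Cube.clsMod_eq_iff hqr (Ample.isInvertible_pullback ι htw)).1 ?_
      have h1 : Cube.clsMod hL.1 ^ r = Cube.pull ι (Cube.clsMod (isInvertible_twist N A 1)) := by
        rw [← Cube.clsMod_tensorPow hL.1, ← Cube.clsMod_pullback ι]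
        exact (Cube.clsMod_eq_iff _ _).2 ⟨θ⟩
      rw [Cube.clsMod_tensorPow hM, NegVan7.clsMod_of_inverse hL.1 hM hinv, Cube.clsMod_pullback ι htw,
        Cube.clsMod_tensorPow (isInvertible_twist N A (-1)),
        NegVan7.clsMod_of_inverse (isInvertible_twist N A 1) (isInvertible_twist N A (-1)) (isInverseOf_twist N A),
        map_pow, map_inv, ← h1, inv_pow, inv_pow, ← pow_mul, mul_comm r q]
    obtain ⟨p⟩ : Nonempty (CohB1.tensorPow M (q * r + ρ) ≅
        CohB1.tensorMod (CohB1.tensorPow M ρ) (CohB1.tensorPow M (q * r))) := by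
      refine (Cube.clsMod_eq_iff (Ample.isInvertible_tensorPow hM (q * r + ρ))
        (Ample.isInvertible_tensorMod (Ample.isInvertible_tensorPow hM ρ) hqr)).1 ?_
      rw [Cube.clsMod_tensorMod (Ample.isInvertible_tensorPow hM ρ) hqr, Cube.clsMod_tensorPow hM,
        Cube.clsMod_tensorPow hM, Cube.clsMod_tensorPow hM, ← pow_add, add_comm]
    let T : CohB1.tensorMod F (CohB1.tensorPow M (q * r + ρ)) ≅ CohB1.tensorMod (G ρ) (CohB1.tensorPow M (q * r)) :=
      ((DCoh.tensorBi (X := X)).obj F).mapIso p ≪≫ (OX.tensorAssoc _ _ _).symm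
    obtain ⟨T'⟩ := Regularity.nonempty_push_tensor ι (Euler.isFinLocFree_of_isInvertible htw) (G ρ) g
    haveI : (CohB1.tensorMod (G ρ) (CohB1.tensorPow M (q * r))).IsQuasicoherent :=
      (CMReg.isCoh_tensorMod (hG ρ) hqr).1
    obtain ⟨e⟩ := Snapper.nonempty_HH_linearEquiv_pushforward (A := A) ι hι
      (CohB1.tensorMod (G ρ) (CohB1.tensorPow M (q * r))) i
    haveI := CMReg.subsingleton_of_iso T'.symm hv
    exact CMReg.subsingleton_of_iso T.symm e.toEquiv.subsingleton
  choose Q hQ using key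
  refine ⟨((Finset.range r).sup Q + 1) * r, fun m hm i hi => ?_⟩
  have h2 : (Finset.range r).sup Q ≤ m / r :=
    (Nat.le_succ _).trans ((Nat.le_div_iff_mul_le hr).2 hm)
  have h3 := hQ (m % r) (m / r) ((Finset.le_sup (Finset.mem_range.2 (Nat.mod_lt m hr))).trans h2) i hi
  rwa [Nat.div_add_mod' m r] at h3

end GrothLib.RelVan7
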